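import Cfsg.Agent.Lib.Lie.Twisted.F4Mult.RankOne

/-!
# Two cells of a subgroup of rank one, and faithfulness on the level
-/

set_option autoImplicit false

namespace CfsgLib.Lie.Chev.TwGroups.F4Mult

open Cfsg.Lie
open CfsgLib.Lie.G2Cover (cj mem_cj)
open scoped commutatorElement

variable {K : Type*} [Field K] [Fintype K] {m : ℕ} (hK : Fintype.card K = 2 ^ (2 * m + 1))

include hK in
theorem units_sq_surj : ∀ d : Kˣ, ∃ e : Kˣ, e * e = d := by
  intro d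
  obtain ⟨e, he⟩ := Finite.surjective_of_injective (f := fun e : Kˣ => e ^ (2 : ℕ))
    (fun _ _ h => sq_units_inj hK h) d
  exact ⟨e, by rw [← sq]; exact he⟩

/-- the torus of a rank one subgroup lies in it -/
theorem tor_mem_Mk (k : Fin 2) (d : Kˣ) : tor hK k d ∈ Mk hK k := by
  have hn := nP_mem hK k
  have hM : ∀ h : Kˣ × Kˣ, hP hK h * nP hK k * (hP hK h)⁻¹ * (nP hK k)⁻¹ ∈ Mk hK k := fun h =>
    mul_mem (cj_Mk hK k (hP_mem hK h) _ hn) (inv_mem hn)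
  -- conjugation by `nP` inverts the character of the basic direction
  have inv_chr : ∀ h h' : Kˣ × Kˣ, nP hK k * hP hK h * (nP hK k)⁻¹ = hP hK h' →
      chr m (wt (dk k)) h' = (chr m (wt (dk k)) h)⁻¹ := by
    intro h h' e
    have h1 := congrArg (fun g => g * eP hK (dk k + 8) 1 0 * g⁻¹) e
    rw [hP_eP, mul_one, mul_zero, show nP hK k * hP hK h * (nP hK k)⁻¹ * eP hK (dk k + 8) 1 0 *
      (nP hK k * hP hK h * (nP hK k)⁻¹)⁻¹ = nP hK k * (hP hK h * ((nP hK k)⁻¹ * eP hK (dk k + 8) 1 0 * nP hK k) *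
        (hP hK h)⁻¹) * (nP hK k)⁻¹ by group, ← nP_eP hK k 1 0,
      show (nP hK k)⁻¹ * (nP hK k * eP hK (dk k) 1 0 * (nP hK k)⁻¹) * nP hK k = eP hK (dk k) 1 0 by group,
      hP_eP, mul_one, mul_zero, nP_eP, ← nP_eP hK k ((chr m (wt (dk k + 8)) h' : Kˣ) : K) 0] at h1
    have h2 : chr m (wt (dk k + 8)) h' = chr m (wt (dk k)) h :=
      Units.ext (eP_base_inj hK k (by simpa [← nP_eP] using h1.symm))
    rw [← h2, (dkTab k).2.2.2, chr_smul hK, show (-1 : ℤ√2) = ((-1 : ℤ) : ℤ√2) by norm_num, pw_int, zpow_neg_one,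
      inv_inv]
  obtain ⟨e, rfl⟩ := units_sq_surj hK d
  obtain ⟨h', eh⟩ := exists_hP hK (nP_conj_HB hK k (hP_mem hK (tc k e)))
  have hmem : hP hK (tc k e * h'⁻¹) ∈ Mk hK k := by
    have h3 : hP hK (tc k e * h'⁻¹) = hP hK (tc k e) * nP hK k * (hP hK (tc k e))⁻¹ * (nP hK k)⁻¹ := by
      rw [map_mul, map_inv, ← eh]; group
    rw [h3]; exact hM _
  obtain ⟨c, hc⟩ := torus_Mk hK k (hP_mem hK _) hmem
  have h4 := hP_injective hK hc
  have h5 : h' = tc k (e * c⁻¹) := by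
    have : tc k c * h' = tc k e := by rw [← h4, inv_mul_cancel_right]
    rw [tc_mul, show tc k c⁻¹ = (tc k c)⁻¹ by unfold tc; split_ifs <;> simp, ← this, mul_comm, ← mul_assoc,
      inv_mul_cancel, one_mul]
  have h6 := inv_chr _ _ eh
  rw [h5] at h6
  have h7 : e * c⁻¹ = e⁻¹ := by
    refine chr_sel_injective (m := m) hK k (h6.trans (inv_eq_of_mul_eq_one_right ?_))
    rw [← chr_mul_arg, ← tc_mul, mul_inv_cancel, show tc k (1 : Kˣ) = 1 by unfold tc; split_ifs <;> rfl]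
    simp [chr, pw]
  have h8 : c = e * e := by
    have := congrArg (fun x => e * x⁻¹) h7
    simpa [mul_comm, mul_left_comm] using this
  rw [← h8]
  exact hc ▸ hmem

theorem nP_tor' (k : Fin 2) (d : Kˣ) : nP hK k * tor hK k d * (nP hK k)⁻¹ = tor hK k d⁻¹ :=
  nP_tor hK k (tor_mem_Mk hK k) d

/-- the rank one relation with a conjugate of `nP` -/
theorem rank_rel' (hm : 1 ≤ m) (k : Fin 2) : ∀ x ∈ RT hK (dk k + 8),
    x = 1 ∨ ∃ p ∈ RT hK (dk k), ∃ h ∈ HB hK, ∃ p' ∈ RT hK (dk k), x = p * (h * nP hK k * h⁻¹) * p' := by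
  intro x hx
  rcases rank_rel hK hm k x hx with h | ⟨p, hp, h, hh, p', hp', e⟩
  · exact Or.inl h
  have hhM : h ∈ Mk hK k := by
    rw [show h = p⁻¹ * x * p'⁻¹ * (nP hK k)⁻¹ by rw [e]; group]
    exact mul_mem (mul_mem (mul_mem (inv_mem (RT_le_Mk hK k hp)) (RT8_le_Mk hK k hx))
      (inv_mem (RT_le_Mk hK k hp'))) (inv_mem (nP_mem hK k))
  obtain ⟨d, rfl⟩ := torus_Mk hK k hh hhM
  obtain ⟨c, rfl⟩ := units_sq_surj hK d
  refine Or.inr ⟨p, hp, _, tor_mem_HB hK k c, p', hp', ?_⟩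
  rw [e, map_mul]
  have h2 := nP_tor' hK k c⁻¹
  rw [inv_inv, map_inv] at h2
  congr 2
  rw [mul_assoc (tor hK k c) (nP hK k), show nP hK k * (tor hK k c)⁻¹ = nP hK k * (tor hK k c)⁻¹ * (nP hK k)⁻¹ * nP hK k by
    group, h2]
  group

/-- the two cells of a rank one subgroup -/
theorem Mk_cells (hm : 1 ≤ m) (k : Fin 2) {g : ↥(GP hK)} (hg : g ∈ Mk hK k) :
    (∃ u ∈ RT hK (dk k), ∃ d, g = u * tor hK k d) ∨
      ∃ u ∈ RT hK (dk k), ∃ d, ∃ u' ∈ RT hK (dk k), g = u * (tor hK k d * nP hK k) * u' := by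
  rcases two_cells (H := HB hK) (n := nP hK k)
      (fun h hh u hu => by rw [← cj_HB_RT hK hh (dk k)]; exact ⟨u, hu, rfl⟩)
      (fun h hh u hu => by rw [← cj_HB_RT hK hh (dk k + 8)]; exact ⟨u, hu, rfl⟩)
      (fun h hh => nP_conj_HB hK k hh) (nP_sq hK k)
      (fun u hu => by rw [← cj_nP]; exact ⟨u, hu, rfl⟩) (rank_rel hK hm k) hg with
    ⟨u, hu, h, hh, rfl⟩ | ⟨u, hu, h, hh, u', hu', rfl⟩
  · have hhM : h ∈ Mk hK k := by
      have := mul_mem (inv_mem (RT_le_Mk hK k hu)) hg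
      rwa [inv_mul_cancel_left] at this
    obtain ⟨d, rfl⟩ := torus_Mk hK k hh hhM
    exact Or.inl ⟨u, hu, d, rfl⟩
  · have hhM : h ∈ Mk hK k := by
      have := mul_mem (mul_mem (mul_mem (inv_mem (RT_le_Mk hK k hu)) hg) (inv_mem (RT_le_Mk hK k hu')))
        (inv_mem (nP_mem hK k))
      rwa [show u⁻¹ * (u * (h * nP hK k) * u') * u'⁻¹ * (nP hK k)⁻¹ = h by group] at this
    obtain ⟨d, rfl⟩ := torus_Mk hK k hh hhM
    exact Or.inr ⟨u, hu, d, u', hu', rfl⟩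

/-- lower triangular -/
def IsLo {n : ℕ} (A : Matrix (Fin n) (Fin n) K) : Prop := ∀ i j, i < j → A i j = 0

omit [Fintype K] in
theorem IsLo.mul {n : ℕ} {A B : Matrix (Fin n) (Fin n) K} (hA : IsLo A) (hB : IsLo B) : IsLo (A * B) := by
  intro i j hij
  rw [Matrix.mul_apply]
  refine Finset.sum_eq_zero fun l _ => ?_
  rcases lt_or_ge i l with h | h
  · rw [hA i l h, zero_mul]
  · rw [hB l j (lt_of_le_of_lt h hij), mul_zero]

/-- `nP` is not lower triangular on the level -/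
theorem rep_nP_not_Lo (k : Fin 2) : ¬ IsLo (rep hK k ⟨_, nP_mem hK k⟩).val := by
  obtain ⟨i, j, hij, a, c, w, ha, hc, hw, e, hne⟩ : ∃ (i j : Fin (lvW k).length), i < j ∧ ∃ a c w,
      a ∈ RT hK (dk k) ∧ c ∈ RT hK (dk k) ∧ ∃ hw : w ∈ RT hK (dk k + 8),
      nP hK k = a * w * c ∧ (rep hK k ⟨w, RT8_le_Mk hK k hw⟩).val i j ≠ 0 := by
    fin_cases k
    · refine ⟨(0 : Fin 2), (1 : Fin 2), by decide, _, _, _, eP_mem hK 0 1 0, eP_mem hK 0 1 0, eP_mem hK 8 1 0,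
        naP_eq hK, ?_⟩
      show (repA hK ⟨eP hK 8 1 0, _⟩).val 0 1 ≠ 0
      rw [repA_upper hK]
      simp
    · refine ⟨(0 : Fin 4), (1 : Fin 4), by decide, _, _, _, eP_mem hK 7 1 1, eP_mem hK 7 0 1, eP_mem hK 15 1 0,
        nbP_eq hK, ?_⟩
      show (repB hK ⟨eP hK 15 1 0, _⟩).val 0 1 ≠ 0
      rw [repB_upper hK]
      simp
  intro hlo
  refine hne ?_
  have e' : (⟨w, RT8_le_Mk hK k hw⟩ : ↥(Mk hK k)) = ⟨a⁻¹, RT_le_Mk hK k (inv_mem ha)⟩ * ⟨_, nP_mem hK k⟩ *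
      ⟨c⁻¹, RT_le_Mk hK k (inv_mem hc)⟩ := Subtype.ext (by
        show w = a⁻¹ * nP hK k * c⁻¹
        rw [e]; group)
  rw [e', map_mul, map_mul, Units.val_mul, Units.val_mul]
  exact (IsLo.mul (IsLo.mul (rep_LU hK k _ (inv_mem ha)).1 hlo) (rep_LU hK k _ (inv_mem hc)).1) i j hij

/-- the representation is faithful once it is faithful on the positive root subgroup -/
theorem rep_injective (hm : 1 ≤ m) (k : Fin 2)
    (hu : ∀ (u : ↥(GP hK)) (h : u ∈ RT hK (dk k)), rep hK k ⟨u, RT_le_Mk hK k h⟩ = 1 → u = 1) :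
    Function.Injective (rep hK k) := by
  refine (injective_iff_map_eq_one _).2 fun g hg => ?_
  obtain ⟨g, hgM⟩ := g
  rcases Mk_cells hK hm k hgM with ⟨u, huU, d, rfl⟩ | ⟨u, huU, d, u', huU', rfl⟩
  · have e : rep hK k ⟨tor hK k d, tor_mem_Mk hK k d⟩ = rep hK k ⟨u⁻¹, RT_le_Mk hK k (inv_mem huU)⟩ := by
      rw [show (⟨tor hK k d, tor_mem_Mk hK k d⟩ : ↥(Mk hK k)) =
        ⟨u⁻¹, RT_le_Mk hK k (inv_mem huU)⟩ * ⟨u * tor hK k d, hgM⟩ from Subtype.ext (by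
          show tor hK k d = u⁻¹ * (u * tor hK k d)
          group), map_mul, hg, mul_one]
    obtain ⟨-, -, -, s3, hl⟩ := selTab k
    have h1 := congrArg (fun A : GL (Fin (lvW k).length) K => A.val ⟨0, hl⟩ ⟨0, hl⟩) e
    rw [(rep_LU hK k _ (inv_mem huU)).2] at h1
    have h2 := rep_torus hK k (tc k d) (tor_mem_Mk hK k d)
    change (rep hK k ⟨tor hK k d, tor_mem_Mk hK k d⟩).val = _ at h2
    rw [h2, Matrix.diagonal_apply_eq] at h1
    have h3 : ev m ((lvW k).getD 0 0) (tc k d) ^ (2 : ℕ) = 1 := by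
      rw [show ev m ((lvW k).getD 0 0) (tc k d) = 1 from Units.ext h1, one_pow]
    rw [ev_sq, chr_tc] at h3
    obtain rfl := pw_eq_one hK s3 h3
    have e1 : u = 1 := hu u huU (by
      rw [← hg]
      congr 1
      exact Subtype.ext (by show u = u * tor hK k 1; rw [map_one, mul_one]))
    exact Subtype.ext (by show u * tor hK k 1 = 1; rw [map_one, mul_one, e1])
  · exfalso
    refine rep_nP_not_Lo hK k ?_
    have e' : rep hK k ⟨_, nP_mem hK k⟩ = rep hK k (⟨tor hK k d, tor_mem_Mk hK k d⟩⁻¹ *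
        ⟨u⁻¹, RT_le_Mk hK k (inv_mem huU)⟩ * ⟨u'⁻¹, RT_le_Mk hK k (inv_mem huU')⟩) := by
      rw [show (⟨_, nP_mem hK k⟩ : ↥(Mk hK k)) = ⟨tor hK k d, tor_mem_Mk hK k d⟩⁻¹ *
        ⟨u⁻¹, RT_le_Mk hK k (inv_mem huU)⟩ * ⟨_, hgM⟩ * ⟨u'⁻¹, RT_le_Mk hK k (inv_mem huU')⟩ from Subtype.ext (by
          show nP hK k = (tor hK k d)⁻¹ * u⁻¹ * (u * (tor hK k d * nP hK k) * u') * u'⁻¹
          group), map_mul, map_mul _ (_ * _), hg, mul_one, ← map_mul]
    rw [e', map_mul, map_mul, Units.val_mul, Units.val_mul]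
    refine IsLo.mul (IsLo.mul ?_ (rep_LU hK k _ (inv_mem huU)).1) (rep_LU hK k _ (inv_mem huU')).1
    intro i j hij
    rw [show (⟨tor hK k d, tor_mem_Mk hK k d⟩ : ↥(Mk hK k))⁻¹ = ⟨tor hK k d⁻¹, tor_mem_Mk hK k d⁻¹⟩ from
      Subtype.ext (map_inv _ _).symm]
    have h2 := rep_torus hK k (tc k d⁻¹) (tor_mem_Mk hK k d⁻¹)
    exact (congrFun (congrFun h2 i) j).trans (Matrix.diagonal_apply_ne _ hij.ne)

theorem repA_injective (hm : 1 ≤ m) : Function.Injective (repA hK) := by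
  refine rep_injective hK hm 0 fun u hu h => ?_
  obtain ⟨t, v, rfl⟩ := hu
  have h1 : (!![1, 0; frF4 hK t, 1] : Matrix (Fin 2) (Fin 2) K) = 1 :=
    (repA_lower hK t v).symm.trans (congrArg Units.val h)
  have h2 : t = 0 := (map_eq_zero (frF4 hK)).1 (by simpa [Matrix.one_apply] using congrFun (congrFun h1 1) 0)
  subst h2
  have e : eP hK 0 (0 : K) v = eP hK 0 0 0 := rfl
  exact e.trans (eP_zero hK 0)

theorem repB_injective (hm : 1 ≤ m) : Function.Injective (repB hK) := by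
  refine rep_injective hK hm 1 fun u hu h => ?_
  obtain ⟨t, v, rfl⟩ := hu
  obtain ⟨h1, h2⟩ := repB_lower hK t v
  have h' : (repB hK ⟨eP hK 7 t v, RT_le_Mk hK 1 (eP_mem hK 7 t v)⟩).val = 1 := congrArg Units.val h
  rw [h'] at h1 h2
  have ht : t = 0 := (map_eq_zero (frF4 hK)).1 (by simpa using h1.symm)
  subst ht
  have hv : v = 0 := by simpa using h2.symm
  subst hv
  exact eP_zero hK 7

end CfsgLib.Lie.Chev.TwGroups.F4Mult
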