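import Cfsg.Agent.Lib.Lie.Twisted.G2Cover.Basic

/-!
# A group generated by two opposite root subgroups with a rank one relation is two cells
-/

set_option autoImplicit false

namespace CfsgLib.Lie.Chev.TwGroups.F4Mult

variable {G : Type*} [Group G] {H U V : Subgroup G} {n : G}

theorem two_cells (hU : ∀ h ∈ H, ∀ u ∈ U, h * u * h⁻¹ ∈ U) (hV : ∀ h ∈ H, ∀ v ∈ V, h * v * h⁻¹ ∈ V)
    (hn : ∀ h ∈ H, n * h * n⁻¹ ∈ H) (hnn : n * n ∈ H) (hUV : ∀ u ∈ U, n * u * n⁻¹ ∈ V)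
    (hr : ∀ x ∈ V, x = 1 ∨ ∃ p ∈ U, ∃ h ∈ H, ∃ p' ∈ U, x = p * (h * n) * p') {g : G} (hg : g ∈ U ⊔ V) :
    (∃ u ∈ U, ∃ h ∈ H, g = u * h) ∨ ∃ u ∈ U, ∃ h ∈ H, ∃ u' ∈ U, g = u * (h * n) * u' := by
  have hU' : ∀ h ∈ H, ∀ u ∈ U, h⁻¹ * u * h ∈ U := fun h hh u hu => by
    simpa using hU h⁻¹ (inv_mem hh) u hu
  rw [Subgroup.sup_eq_closure] at hg
  refine Subgroup.closure_induction_left (p := fun g _ => (∃ u ∈ U, ∃ h ∈ H, g = u * h) ∨
    ∃ u ∈ U, ∃ h ∈ H, ∃ u' ∈ U, g = u * (h * n) * u') ?_ ?_ ?_ hg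
  · exact Or.inl ⟨1, one_mem _, 1, one_mem _, (one_mul _).symm⟩
  all_goals
    intro x hx g _ ih
    have step : ∀ y, y ∈ U ∨ y ∈ V → (∃ u ∈ U, ∃ h ∈ H, y * g = u * h) ∨
        ∃ u ∈ U, ∃ h ∈ H, ∃ u' ∈ U, y * g = u * (h * n) * u' := by
      rintro y (hy | hy)
      · rcases ih with ⟨u, hu, h, hh, rfl⟩ | ⟨u, hu, h, hh, u', hu', rfl⟩
        · exact Or.inl ⟨y * u, mul_mem hy hu, h, hh, by group⟩
        · exact Or.inr ⟨y * u, mul_mem hy hu, h, hh, u', hu', by group⟩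
      · rcases hr y hy with rfl | ⟨p, hp, k, hk, p', hp', rfl⟩
        · simpa using ih
        rcases ih with ⟨u, hu, h, hh, rfl⟩ | ⟨u, hu, h, hh, u', hu', rfl⟩
        · refine Or.inr ⟨p, hp, k * (n * h * n⁻¹), mul_mem hk (hn h hh), h⁻¹ * (p' * u) * h,
            hU' h hh _ (mul_mem hp' hu), ?_⟩
          group
        · have h2 : n * h * n⁻¹ * (n * n) ∈ H := mul_mem (hn h hh) hnn
          rcases hr _ (hUV _ (mul_mem hp' hu)) with e | ⟨q, hq, a, ha, q', hq', e⟩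
          · refine Or.inl ⟨p * ((k * (n * h * n⁻¹ * (n * n))) * u' * (k * (n * h * n⁻¹ * (n * n)))⁻¹),
              mul_mem hp (hU _ (mul_mem hk h2) u' hu'), k * (n * h * n⁻¹ * (n * n)), mul_mem hk h2, ?_⟩
            calc p * (k * n) * p' * (u * (h * n) * u') =
                p * k * (n * (p' * u) * n⁻¹) * (n * h * n⁻¹ * (n * n)) * u' := by group
              _ = _ := by rw [e]; group
          · refine Or.inr ⟨p * (k * q * k⁻¹), mul_mem hp (hU k hk q hq),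
              k * a * (n * (n * h * n⁻¹ * (n * n)) * n⁻¹), mul_mem (mul_mem hk ha) (hn _ h2),
              (n * h * n⁻¹ * (n * n))⁻¹ * q' * (n * h * n⁻¹ * (n * n)) * u', mul_mem (hU' _ h2 q' hq') hu', ?_⟩
            calc p * (k * n) * p' * (u * (h * n) * u') =
                p * k * (n * (p' * u) * n⁻¹) * (n * h * n⁻¹ * (n * n)) * u' := by group
              _ = _ := by rw [e]; group
    first
      | exact step x hx
      | exact step x⁻¹ (hx.imp inv_mem inv_mem)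

end CfsgLib.Lie.Chev.TwGroups.F4Mult
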