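import Cfsg.Agent.Lib.Lie.Twisted.F4Mult.Roots
import Cfsg.Agent.Lib.Lie.Twisted.OctCover.Basic

/-!
# The root subgroups inside the large Ree groups: spans and commutators
-/

set_option autoImplicit false

namespace CfsgLib.Lie.Chev.TwGroups.F4Mult

open Cfsg.Lie
open CfsgLib.Lie.G2Cover (cj mem_cj)
open CfsgLib.Lie.OctCover (spanR)
open CfsgLib.Lie.Chev.TwGroups.F4Inv (form nA nB nw memF4)
open scoped commutatorElement

variable {K : Type*} [Field K] [Fintype K] {m : ℕ} (hK : Fintype.card K = 2 ^ (2 * m + 1))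

/-- the twisted group inside the Chevalley group -/
noncomputable abbrev GP : Subgroup ↥(chevF4.group K) := (twF4 hK).P1

/-- the span of a root list, inside the twisted group -/
noncomputable def SB (L : List ℕ) : Subgroup ↥(GP hK) := (UL K L).subgroupOf (GP hK)

/-- the torus, inside the twisted group -/
noncomputable def HB : Subgroup ↥(GP hK) := (RR K).HS.subgroupOf (GP hK)

/-- a root element of the twisted group -/
noncomputable def eP (k : ZMod 16) (t u : K) : ↥(GP hK) := ⟨el hK k t u, el_mem hK k t u⟩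

theorem coe_eP (k : ZMod 16) (t u : K) : (eP hK k t u : ↥(chevF4.group K)) = el hK k t u := rfl

theorem eP_mul (k : ZMod 16) (t u t' u' : K) :
    eP hK k t u * eP hK k t' u' = eP hK k (t + t') (u + u' + t' * frF4 hK t) := Subtype.ext (el_mul hK k t u t' u')

theorem eP_inv (k : ZMod 16) (t u : K) : (eP hK k t u)⁻¹ = eP hK k t (u + t * frF4 hK t) :=
  Subtype.ext (el_inv hK k t u)

theorem eP_zero (k : ZMod 16) : eP hK k (0 : K) 0 = 1 := Subtype.ext (el_zero hK k)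

/-- the root subgroup of a direction -/
noncomputable def RT (k : ZMod 16) : Subgroup ↥(GP hK) where
  carrier := {x | ∃ t u, x = eP hK k t u}
  one_mem' := ⟨0, 0, (eP_zero hK k).symm⟩
  mul_mem' := by
    rintro _ _ ⟨t, u, rfl⟩ ⟨t', u', rfl⟩
    exact ⟨_, _, eP_mul hK k t u t' u'⟩
  inv_mem' := by
    rintro _ ⟨t, u, rfl⟩
    exact ⟨_, _, eP_inv hK k t u⟩

theorem eP_mem (k : ZMod 16) (t u : K) : eP hK k t u ∈ RT hK k := ⟨t, u, rfl⟩

theorem RT_le_SB (k : ZMod 16) : RT hK k ≤ SB hK (rl k) := by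
  rintro _ ⟨t, u, rfl⟩
  exact el_mem_UL hK k t u

theorem SB_le_RT (k : ZMod 16) : SB hK (rl k) ≤ RT hK k := fun x hx => by
  obtain ⟨t, u, e⟩ := fixed_UL hK k x.2 hx
  exact ⟨t, u, Subtype.ext e⟩

theorem RT_eq (k : ZMod 16) : RT hK k = SB hK (rl k) := le_antisymm (RT_le_SB hK k) (SB_le_RT hK k)

/-- torus elements of the twisted group -/
noncomputable def hP : Kˣ × Kˣ →* ↥(GP hK) where
  toFun h := ⟨psiF4 K m h, (Subgroup.mem_inf.1 (psiF4_mem hK h)).1⟩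
  map_one' := Subtype.ext (map_one _)
  map_mul' g h := Subtype.ext (map_mul _ g h)

theorem coe_hP (h : Kˣ × Kˣ) : (hP hK h : ↥(chevF4.group K)) = psiF4 K m h := rfl

theorem hP_mem (h : Kˣ × Kˣ) : hP hK h ∈ HB hK := (Subgroup.mem_inf.1 (psiF4_mem hK h)).2

theorem exists_hP {x : ↥(GP hK)} (hx : x ∈ HB hK) : ∃ h, x = hP hK h := by
  obtain ⟨h, e⟩ : (x : ↥(chevF4.group K)) ∈ (psiF4 K m).range :=
    (psiF4_range hK).symm ▸ Subgroup.mem_inf.2 ⟨x.2, hx⟩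
  exact ⟨h, Subtype.ext e.symm⟩

theorem hP_injective : Function.Injective (hP hK) := fun a b e => by
  have h := congrArg (fun x : ↥(GP hK) => (x : ↥(chevF4.group K))) e
  exact psiF4_injective m h

theorem HB_comm : ∀ x ∈ HB hK, ∀ y ∈ HB hK, x * y = y * x := by
  intro x hx y hy
  obtain ⟨g, rfl⟩ := exists_hP hK hx
  obtain ⟨h, rfl⟩ := exists_hP hK hy
  rw [← map_mul, ← map_mul, mul_comm]

include hK in
theorem ev_class (k : ZMod 16) (h : Kˣ × Kˣ) :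
    ev m (rt k 1) h = chr m (wt k) h ∧ (ev m (rt k 0) h : K) = frF4 hK (chr m (wt k) h : K) ∧
      (evB k = false → (ev m (rt k 2) h : K) = frF4 hK (chr m (wt k) h : K) * (chr m (wt k) h : K) ∧
        (ev m (rt k 3) h : K) = frF4 hK (frF4 hK (chr m (wt k) h : K) * (chr m (wt k) h : K)) ^ (2 : ℕ)) := by
  haveI := charF4 hK
  obtain ⟨w1, w0, w23⟩ := wtTab k
  obtain ⟨c, hc⟩ : ∃ c, c = chr m (wt k) h := ⟨_, rfl⟩
  rw [← hc]
  have hφ : ∀ x : Kˣ, (x : K) ^ 2 ^ (m + 1) = frF4 hK (x : K) ^ (2 : ℕ) := fun x => by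
    rw [frF4_apply, ← pow_mul, ← pow_succ]
  have sqe : ∀ {x : Kˣ} {y : K}, ((x : K)) ^ (2 : ℕ) = y ^ (2 : ℕ) → (x : K) = y := fun h => CharTwo.sq_injective h
  have hsq : ∀ r, (ev m r h : K) ^ (2 : ℕ) = ((chr m (rootWt r) h : Kˣ) : K) := fun r => by
    rw [← ev_sq, Units.val_pow_eq_pow_val]
  refine ⟨sq_units_inj hK ?_, sqe ?_, fun he => ⟨sqe ?_, sqe ?_⟩⟩
  · rw [ev_sq, w1, chr_smul hK, ← hc, pw_two]
  · rw [hsq, w0, chr_smul hK, ← hc, pw_s2, Units.val_pow_eq_pow_val, hφ]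
  · rw [hsq, (w23 he).1, chr_smul hK, ← hc, pw_add, pw_two, pw_s2, Units.val_mul, Units.val_pow_eq_pow_val,
      Units.val_pow_eq_pow_val, hφ, mul_pow, mul_comm]
  · rw [hsq, (w23 he).2, chr_smul hK, ← hc, pw_mul hK, pw_s2, pw_add, pw_two, pw_s2, Units.val_pow_eq_pow_val,
      hφ, Units.val_mul, Units.val_pow_eq_pow_val, Units.val_pow_eq_pow_val, hφ, ← mul_pow, mul_comm, map_pow]

/-- the torus acts on each direction by scalars -/
theorem psi_el (k : ZMod 16) (h : Kˣ × Kˣ) (t u : K) :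
    psiF4 K m h * el hK k t u * (psiF4 K m h)⁻¹ =
      el hK k ((chr m (wt k) h : K) * t) (frF4 hK (chr m (wt k) h : K) * (chr m (wt k) h : K) * u) := by
  obtain ⟨hr, hr'⟩ := And.intro (rt_mem k) (wordTab k).2.2.2.2.2
  simp only [List.all_eq_true, nat_blt_iff] at hr'
  obtain ⟨e1, e0, e23⟩ := ev_class hK k h
  have key : ∀ r ∈ rl k, ∀ x : K, MulAut.conj (psiF4 K m h) (F4Inv.X r x) = F4Inv.X r ((ev m r h : K) * x) :=
    fun r hr x => torusG_conj_X h (hr' r hr) x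
  rw [← MulAut.conj_apply]
  unfold el
  cases he : evB k
  · obtain ⟨e2, e3⟩ := e23 he
    simp only [cond_false, F4Inv.cB, map_mul, key _ hr.1, key _ hr.2.1, key _ (hr.2.2 he).1, key _ (hr.2.2 he).2,
      e0, e1, e2, e3]
    congr 4 <;> ring
  · simp only [cond_true, F4Inv.cA, map_mul, key _ hr.1, key _ hr.2.1, e0, e1]

theorem hP_eP (k : ZMod 16) (h : Kˣ × Kˣ) (t u : K) :
    hP hK h * eP hK k t u * (hP hK h)⁻¹ =
      eP hK k ((chr m (wt k) h : K) * t) (frF4 hK (chr m (wt k) h : K) * (chr m (wt k) h : K) * u) :=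
  Subtype.ext (psi_el hK k h t u)

theorem cj_HB_RT {x : ↥(GP hK)} (hx : x ∈ HB hK) (k : ZMod 16) : cj x (RT hK k) = RT hK k := by
  obtain ⟨h, rfl⟩ := exists_hP hK hx
  refine le_antisymm ?_ fun y hy => ?_
  · rintro _ ⟨_, ⟨t, u, rfl⟩, rfl⟩
    exact ⟨_, _, hP_eP hK k h t u⟩
  · obtain ⟨t, u, rfl⟩ := hy
    rw [mem_cj, ← map_inv]
    refine ⟨_, _, Eq.trans ?_ (hP_eP hK k h⁻¹ t u)⟩
    rw [map_inv, inv_inv]

/-- `nA` in the twisted group -/
noncomputable def naP : ↥(GP hK) := ⟨nA, (memF4 hK).mnA⟩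

/-- `nB` in the twisted group -/
noncomputable def nbP : ↥(GP hK) := ⟨nB, (memF4 hK).mnB⟩

theorem naP_eP (k : ZMod 16) (t u : K) : naP hK * eP hK k t u * (naP hK)⁻¹ = eP hK (8 - k) t u :=
  Subtype.ext (conj_nA_el hK k t u)

theorem nbP_eP (k : ZMod 16) (t u : K) : nbP hK * eP hK k t u * (nbP hK)⁻¹ = eP hK (6 - k) t u :=
  Subtype.ext (conj_nB_el hK k t u)

theorem cj_naP (k : ZMod 16) : cj (naP hK) (RT hK k) = RT hK (8 - k) := by
  refine le_antisymm ?_ ?_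
  · rintro _ ⟨_, ⟨t, u, rfl⟩, rfl⟩
    exact ⟨t, u, naP_eP hK k t u⟩
  · rintro _ ⟨t, u, rfl⟩
    exact ⟨_, eP_mem hK k t u, naP_eP hK k t u⟩

theorem cj_nbP (k : ZMod 16) : cj (nbP hK) (RT hK k) = RT hK (6 - k) := by
  refine le_antisymm ?_ ?_
  · rintro _ ⟨_, ⟨t, u, rfl⟩, rfl⟩
    exact ⟨t, u, nbP_eP hK k t u⟩
  · rintro _ ⟨t, u, rfl⟩
    exact ⟨_, eP_mem hK k t u, nbP_eP hK k t u⟩

/-! ### spans -/

/-- the roots of consecutive directions -/
def rsp : ℕ → ℕ → List ℕ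
  | _, 0 => []
  | i, n + 1 => rl (i : ZMod 16) ++ rsp (i + 1) n

/-- a list is stable under the twisting -/
def stabB (L : List ℕ) : Bool := L.all fun r => L.contains (twAt chevF4 twTF4 r).1

/-- the checks on one span -/
def chkSpan (i n : ℕ) : Bool :=
  normB (rl (i : ZMod 16)) (rsp (i + 1) n) && stabB (rl (i : ZMod 16)) && stabB (rsp (i + 1) n) &&
    closedB (rl (i : ZMod 16)) && closedB (rsp (i + 1) n) &&
    (rl (i : ZMod 16)).all (fun r => !(rsp (i + 1) n).contains r) &&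
    (rl (i : ZMod 16) ++ rsp (i + 1) n).all fun r => Nat.ble (half chevF4) r

theorem spanTab : ∀ i : ℕ, i < 8 → ∀ n : ℕ, n < 8 → i + n < 8 → chkSpan i n = true := by decide +kernel

theorem commTab : ∀ i : ℕ, i < 8 → ∀ n : ℕ, n < 8 → i + n + 1 < 8 →
    commB (rl (i : ZMod 16)) (rl ((i + n + 1 : ℕ) : ZMod 16)) (rsp (i + 1) n) = true := by decide +kernel

include hK in
theorem splitF4 {L T : List ℕ} (hn : normB L T = true) (hL : stabB L = true) (hT : stabB T = true)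
    (hd : UL K L ⊓ UL K T = ⊥) (hp : ((L ++ T).all fun r => Nat.ble (half chevF4) r) = true)
    {z : ↥(chevF4.group K)} (hz : z ∈ (twF4 hK).P1) (hzU : z ∈ UL K (L ++ T)) :
    ∃ a ∈ (twF4 hK).P1, a ∈ UL K L ∧ ∃ b ∈ (twF4 hK).P1, b ∈ UL K T ∧ z = a * b := by
  rw [UL_append, sup_comm] at hzU
  obtain ⟨b, hb, a, ha, rfl⟩ := exists_mul_of_mem_sup (UL_le_normalizer hn) hzU
  have hb' : a⁻¹ * b * a ∈ UL K T := by
    have := (Subgroup.mem_normalizer_iff.1 (UL_le_normalizer hn (inv_mem ha)) b).1 hb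
    rwa [inv_inv] at this
  obtain ⟨c, hc, rfl⟩ : ∃ c, c ∈ UL K T ∧ b = a * c * a⁻¹ := ⟨_, hb', by group⟩
  have hstab : ∀ {M : List ℕ}, stabB M = true → ∀ g ∈ UL K M, (twF4 hK).σ g ∈ UL K M := by
    intro M hM g hg
    simp only [stabB, List.all_eq_true, List.contains_iff_mem] at hM
    exact (twF4 hK).toTw.σ_mem_US (S := {r : Fin chevF4.nroots | (r : ℕ) ∈ M})
      (S' := {r : Fin chevF4.nroots | (r : ℕ) ∈ M}) (fun r hr => hM _ hr) hg
  have e := (twF4 hK).hfix _ hz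
  rw [show a * c * a⁻¹ * a = a * c by group] at e hz ⊢
  rw [map_mul] at e
  have hmem : a⁻¹ * (twF4 hK).σ a ∈ UL K L ⊓ UL K T := Subgroup.mem_inf.2
    ⟨mul_mem (inv_mem ha) (hstab hL a ha), by
      rw [show a⁻¹ * (twF4 hK).σ a = c * ((twF4 hK).σ c)⁻¹ by
        rw [eq_mul_inv_iff_mul_eq, mul_assoc, e, inv_mul_cancel_left]]
      exact mul_mem hc (inv_mem (hstab hT c hc)) ⟩
  rw [hd, Subgroup.mem_bot, inv_mul_eq_one] at hmem
  rw [← hmem, mul_right_inj] at e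
  simp only [List.all_append, Bool.and_eq_true] at hp
  exact ⟨a, (twF4 hK).mem_P1_of_fixed_UP (UL_le_UP hp.1 ha) hmem.symm, ha, c,
    (twF4 hK).mem_P1_of_fixed_UP (UL_le_UP hp.2 hc) e, hc, rfl⟩

theorem SB_nil : SB hK ([] : List ℕ) = ⊥ :=
  eq_bot_iff.2 fun x hx => Subgroup.mem_bot.2 (Subtype.ext (Subgroup.mem_bot.1 (UL_nil (K := K) ▸ hx)))

theorem spanR_eq : ∀ (n i : ℕ), i + n ≤ 8 → spanR (RT hK) i n = SB hK (rsp i n)
  | 0, _, _ => (SB_nil hK).symm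
  | n + 1, i, h => by
    rw [spanR, spanR_eq n (i + 1) (by omega), RT_eq]
    have hs := spanTab i (by omega) n (by omega) (by omega)
    simp only [chkSpan, Bool.and_eq_true] at hs
    obtain ⟨⟨⟨⟨⟨⟨h1, h2⟩, h3⟩, h4⟩, h5⟩, h6⟩, h7⟩ := hs
    refine le_antisymm (sup_le (fun _ hx => UL_mono (fun _ h => List.mem_append_left _ h) hx)
      fun _ hx => UL_mono (fun _ h => List.mem_append_right _ h) hx) fun x hx => ?_
    obtain ⟨a, ha, haL, b, hb, hbT, e⟩ := splitF4 hK h1 h2 h3 (UL_inf h4 h5 h6) h7 x.2 hx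
    rw [show x = (⟨a, ha⟩ : ↥(GP hK)) * ⟨b, hb⟩ from Subtype.ext e]
    exact mul_mem (Subgroup.mem_sup_left haL) (Subgroup.mem_sup_right hbT)

theorem comm_span (i n : ℕ) (h : i + n + 1 < 8) : ∀ x ∈ RT hK (i : ZMod 16),
    ∀ y ∈ RT hK ((i + n + 1 : ℕ) : ZMod 16), ⁅x, y⁆ ∈ spanR (RT hK) (i + 1) n := by
  intro x hx y hy
  rw [spanR_eq hK n (i + 1) (by omega)]
  exact comm_UL (commTab i (by omega) n (by omega) h) (RT_le_SB hK _ hx) (RT_le_SB hK _ hy)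

theorem disj_span (i n : ℕ) (h : i + n < 8) : RT hK (i : ZMod 16) ⊓ spanR (RT hK) (i + 1) n = ⊥ := by
  rw [spanR_eq hK n (i + 1) (by omega), RT_eq]
  have hs := spanTab i (by omega) n (by omega) h
  simp only [chkSpan, Bool.and_eq_true] at hs
  exact (Subgroup.eq_bot_iff_forall _).2 fun x hx => Subtype.ext (Subgroup.mem_bot.1
    ((UL_inf (K := K) hs.1.1.1.2 hs.1.1.2 hs.1.2) ▸
      Subgroup.mem_inf.2 ⟨(Subgroup.mem_inf.1 hx).1, (Subgroup.mem_inf.1 hx).2⟩))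

theorem spanR_le_UP {x : ↥(GP hK)} (hx : x ∈ spanR (RT hK) 0 8) : (x : ↥(chevF4.group K)) ∈ (RR K).UP := by
  rw [spanR_eq hK 8 0 le_rfl] at hx
  exact UL_le_UP (L := rsp 0 8) (by decide +kernel) hx

theorem form_eq (a x1 y x2 z2 t3 x4 z4 t5 x6 z6 t7 : K) :
    form (frF4 hK) a x1 y x2 z2 t3 x4 z4 t5 x6 z6 t7 =
      el hK 0 a 0 * (el hK 7 x1 y * (el hK 1 x2 z2 * (el hK 6 t3 0 * (el hK 5 x4 z4 *
        (el hK 2 t5 0 * (el hK 3 x6 z6 * el hK 4 t7 0)))))) := rfl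

end CfsgLib.Lie.Chev.TwGroups.F4Mult
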