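import Cfsg.Agent.Lib.Lie.Twisted.F4Mult.Group
import Cfsg.Agent.Lib.Lie.Twisted.F4Mult.Cells

/-!
# The monomial elements and the rank one relations
-/

set_option autoImplicit false

namespace CfsgLib.Lie.Chev.TwGroups.F4Mult

open Cfsg.Lie
open CfsgLib.Lie.G2Cover (cj mem_cj)
open CfsgLib.Lie.Chev.TwGroups.F4Inv (nw chkAct nA nB negs nwordA nwordB hasForm form_injective form_mem_UP memF4)
open scoped commutatorElement

variable {K : Type*} [Field K] [Fintype K] {m : ℕ} (hK : Fintype.card K = 2 ^ (2 * m + 1))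

/-- `nA` as a product in the rank one subgroup -/
theorem naP_eq : naP hK = eP hK 0 1 0 * eP hK 8 1 0 * eP hK 0 1 0 := by
  haveI := charF4 hK
  obtain ⟨s0, -, -, s3, n33, -, -, n24⟩ := negs
  have hp : ((2 : ℤ) : K) = 0 := by exact_mod_cast (CharTwo.two_eq_zero : (2 : K) = 0)
  refine Subtype.ext ?_
  show nA (K := K) = F4Inv.cA (frF4 hK) 33 24 1 * F4Inv.cA (frF4 hK) 14 23 1 * F4Inv.cA (frF4 hK) 33 24 1
  have e := wordG_eq_of_chk (K := K) certF4 hp nwordA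
  simp only [castW, List.map_cons, List.map_nil, wordG_cons, wordG_nil, mul_one] at e
  simp only [F4Inv.nw, List.map_cons, List.map_nil, List.prod_cons, List.prod_nil, mul_one, s0, s3, Rel.ne, neOf,
    F4Inv.cA, map_one]
  simp only [Int.cast_one, Int.cast_neg, CharTwo.neg_eq] at e
  simp only [n33, n24, inv_one, CharTwo.neg_eq, mul_assoc]
  exact e

/-- `nB` as a product in the rank one subgroup -/
theorem nbP_eq : nbP hK = eP hK 7 1 1 * eP hK 15 1 0 * eP hK 7 0 1 := by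
  haveI := charF4 hK
  obtain ⟨-, s1, s2, -, -, n27, n25, -⟩ := negs
  have hp : ((2 : ℤ) : K) = 0 := by exact_mod_cast (CharTwo.two_eq_zero : (2 : K) = 0)
  have z : ∀ r, F4Inv.X r (0 : K) = 1 := (RR K).xe_zero
  refine Subtype.ext ?_
  show nB (K := K) = F4Inv.cB (frF4 hK) 27 25 28 30 1 1 * F4Inv.cB (frF4 hK) 20 22 19 17 1 0 *
    F4Inv.cB (frF4 hK) 27 25 28 30 0 1
  have e := wordG_eq_of_chk (K := K) certF4 hp nwordB
  simp only [castW, List.map_cons, List.map_nil, wordG_cons, wordG_nil, mul_one] at e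
  simp only [F4Inv.nw, List.map_cons, List.map_nil, List.prod_cons, List.prod_nil, mul_one, s1, s2, Rel.ne, neOf,
    F4Inv.cB, map_one, map_zero, one_pow, zero_pow two_ne_zero, zero_mul, zero_add, add_zero, one_mul,
    CharTwo.add_self_eq_zero, z]
  simp only [Int.cast_one, Int.cast_neg, CharTwo.neg_eq] at e
  simp only [n27, n25, inv_one, CharTwo.neg_eq, mul_assoc]
  exact e

theorem naP_mem : naP hK ∈ RT hK 0 ⊔ RT hK 8 := by
  rw [naP_eq]
  exact mul_mem (mul_mem (Subgroup.mem_sup_left (eP_mem hK 0 1 0)) (Subgroup.mem_sup_right (eP_mem hK 8 1 0)))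
    (Subgroup.mem_sup_left (eP_mem hK 0 1 0))

theorem nbP_mem : nbP hK ∈ RT hK 7 ⊔ RT hK 15 := by
  rw [nbP_eq]
  exact mul_mem (mul_mem (Subgroup.mem_sup_left (eP_mem hK 7 1 1)) (Subgroup.mem_sup_right (eP_mem hK 15 1 0)))
    (Subgroup.mem_sup_left (eP_mem hK 7 0 1))

omit [Fintype K] in
theorem nw_mem_NS : ∀ L : List ℕ, (∀ i ∈ L, i < 4) → nw (K := K) L ∈ (RR K).NS
  | [], _ => one_mem _
  | i :: L, h => by
    rw [show nw (K := K) (i :: L) = (RR K).ne (chevF4.simple i) 1 * nw L by simp [F4Inv.nw]]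
    exact mul_mem ((RR K).nS ⟨i, F4Inv.rank_F4 ▸ h i List.mem_cons_self⟩).2
      (nw_mem_NS L fun j hj => h j (List.mem_cons_of_mem _ hj))

/-- the word of a rank one subgroup -/
def lw (k : Fin 2) : List ℕ := ltr (decide (k = 1))

theorem lwTab : ∀ k : Fin 2, (∀ i ∈ lw k, i < 4) ∧ ∀ r : Fin chevF4.nroots,
    F4Inv.act (lw k) r = wordAct auxF4 (wordsTF4.getD (k : ℕ) []) r ∧ F4Inv.act (lw k) (F4Inv.act (lw k) r) = r := by
  decide +kernel

theorem nw_perm : ∀ (L : List ℕ) (hL : ∀ i ∈ L, i < 4) (r : Fin chevF4.nroots),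
    ((RR K).nsPerm ⟨nw L, nw_mem_NS L hL⟩ r : ℕ) = F4Inv.act L r
  | [], _, r => by
    rw [show (⟨nw [], nw_mem_NS (K := K) [] (by simp)⟩ : (RR K).NS) = 1 from Subtype.ext (by simp [F4Inv.nw]), map_one]
    rfl
  | i :: L, h, r => by
    have hi : i < chevF4.rank := F4Inv.rank_F4 ▸ h i List.mem_cons_self
    have hL : ∀ j ∈ L, j < 4 := fun j hj => h j (List.mem_cons_of_mem _ hj)
    rw [show (⟨nw (i :: L), nw_mem_NS (K := K) _ h⟩ : (RR K).NS) = (RR K).nS ⟨i, hi⟩ * ⟨nw L, nw_mem_NS L hL⟩ from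
      Subtype.ext (by simp [F4Inv.nw, Rel.nS]), map_mul, Equiv.Perm.mul_apply, (RR K).nsPerm_nS, Rel.wperm_apply,
      nw_perm L hL r]
    rfl

/-- the monomial element of a rank one subgroup -/
noncomputable def nP (k : Fin 2) : ↥(GP hK) := if k = 1 then nbP hK else naP hK

theorem nP_coe (k : Fin 2) : (nP hK k : ↥(chevF4.group K)) = nw (lw k) := by fin_cases k <;> rfl

theorem nP_sq (k : Fin 2) : nP hK k * nP hK k ∈ HB hK := by
  show ((nP hK k * nP hK k : ↥(GP hK)) : ↥(chevF4.group K)) ∈ (RR K).HS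
  rw [Subgroup.coe_mul, nP_coe]
  have h := (RR K).mem_HS_of_nsPerm (g := ⟨nw (lw k), nw_mem_NS _ (lwTab k).1⟩ * ⟨nw (lw k), nw_mem_NS _ (lwTab k).1⟩)
    (by
      ext r
      rw [map_mul, Equiv.Perm.mul_apply, nw_perm (L := lw k) (hL := (lwTab k).1), nw_perm (L := lw k) (hL := (lwTab k).1), ((lwTab k).2 r).2]
      rfl)
  exact h

theorem nP_conj_HB (k : Fin 2) {x : ↥(GP hK)} (hx : x ∈ HB hK) : nP hK k * x * (nP hK k)⁻¹ ∈ HB hK := by
  show ((nP hK k * x * (nP hK k)⁻¹ : ↥(GP hK)) : ↥(chevF4.group K)) ∈ (RR K).HS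
  rw [Subgroup.coe_mul, Subgroup.coe_mul, Subgroup.coe_inv, nP_coe]
  exact (RR K).HS_conj (n := nw (lw k)) (nw_mem_NS _ (lwTab k).1) hx

theorem cj_nP_HB (k : Fin 2) : cj (nP hK k) (HB hK) = HB hK := by
  refine le_antisymm ?_ fun x hx => ?_
  · rintro _ ⟨x, hx, rfl⟩
    exact nP_conj_HB hK k hx
  · rw [mem_cj]
    have h2 := nP_sq hK k
    have e : (nP hK k)⁻¹ * x * nP hK k = nP hK k * ((nP hK k * nP hK k)⁻¹ * x * (nP hK k * nP hK k)) * (nP hK k)⁻¹ := by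
      group
    rw [e]
    exact nP_conj_HB hK k (mul_mem (mul_mem (inv_mem h2) hx) h2)

/-- the direction of a rank one subgroup -/
def dk (k : Fin 2) : ZMod 16 := if k = 1 then 7 else 0

theorem nP_eP (k : Fin 2) (t u : K) : nP hK k * eP hK (dk k) t u * (nP hK k)⁻¹ = eP hK (dk k + 8) t u := by
  fin_cases k
  · exact naP_eP hK 0 t u
  · exact nbP_eP hK 7 t u

theorem cj_nP (k : Fin 2) : cj (nP hK k) (RT hK (dk k)) = RT hK (dk k + 8) := by
  fin_cases k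
  · exact cj_naP hK 0
  · exact cj_nbP hK 7

theorem dkTab : ∀ k : Fin 2, (∀ r ∈ classList chevF4 auxF4 orbLF4 k, r ∈ rl (dk k)) ∧
    (∀ r ∈ rl (dk k), r ∈ classList chevF4 auxF4 orbLF4 k) ∧
    (∀ i : ZMod 16, i.val < 8 → i ≠ dk k → indepB (wt (dk k)) (wt i) = true) ∧
    wt (dk k + 8) = (-1 * (wt (dk k)).1, -1 * (wt (dk k)).2) := by
  decide +kernel

include hK in
theorem card_ge : 1 ≤ m → 8 ≤ Fintype.card K := fun hm => by
  rw [hK]
  calc 8 = 2 ^ 3 := rfl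
    _ ≤ 2 ^ (2 * m + 1) := Nat.pow_le_pow_right two_pos (by omega)

include hK in
theorem exists_ne_one (hm : 1 ≤ m) : ∃ c : Kˣ, c ≠ 1 := by
  classical
  have h8 := card_ge hK hm
  have : Nontrivial Kˣ := by rw [← Fintype.one_lt_card_iff_nontrivial, Fintype.card_units]; omega
  exact exists_ne 1

include hK in
theorem norm_ne_one {c : Kˣ} (hc : c ≠ 1) : frF4 hK (c : K) * (c : K) ≠ 1 := by
  intro h
  have h2 : frF4 hK (c : K) = (c : K)⁻¹ := eq_inv_of_mul_eq_one_left h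
  have h3 := F4Inv.frF4_fix hK (c : K)
  rw [h2, map_inv₀, h2, inv_inv] at h3
  exact hc (Units.ext (mul_left_cancel₀ c.ne_zero (by rw [← sq, h3, Units.val_one, mul_one])))

/-- a fixed positive element centralised by a torus element moving all other directions lies in one direction -/
theorem mem_RT_of_commute {x : ↥(GP hK)} (hx : (x : ↥(chevF4.group K)) ∈ (RR K).UP) (j : ZMod 16) (z : Kˣ × Kˣ)
    (hz : ∀ i : ZMod 16, i.val < 8 → i ≠ j → chr m (wt i) z ≠ 1) (hc : hP hK z * x * (hP hK z)⁻¹ = x) :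
    x ∈ RT hK j := by
  haveI := charF4 hK
  obtain ⟨a, x1, y, x2, z2, t3, x4, z4, t5, x6, z6, t7, e⟩ := hasForm hK _ x.2 hx
  rw [form_eq] at e
  have hx' : x = eP hK 0 a 0 * (eP hK 7 x1 y * (eP hK 1 x2 z2 * (eP hK 6 t3 0 * (eP hK 5 x4 z4 *
      (eP hK 2 t5 0 * (eP hK 3 x6 z6 * eP hK 4 t7 0)))))) := Subtype.ext e.symm
  have h2 := hc
  rw [hx', ← MulAut.conj_apply] at h2
  simp only [map_mul, MulAut.conj_apply, hP_eP, mul_zero] at h2
  have h3 := congrArg Subtype.val h2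
  simp only [Subgroup.coe_mul, coe_eP, ← form_eq] at h3
  obtain ⟨ea, e1, ey, e2, ez2, e3, e4, ez4, e5, e6, ez6, e7⟩ := form_injective (frF4 hK) h3
  have zero : ∀ i : ZMod 16, i.val < 8 → i ≠ j → (∀ t : K, (chr m (wt i) z : K) * t = t → t = 0) ∧
      ∀ u : K, frF4 hK (chr m (wt i) z : K) * (chr m (wt i) z : K) * u = u → u = 0 := fun i hi hij =>
    ⟨fun t ht => by
      by_contra h0
      exact hz i hi hij (Units.ext (by rwa [mul_eq_right₀ h0] at ht)),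
    fun u hu => by
      by_contra h0
      exact norm_ne_one hK (hz i hi hij) (by rwa [mul_eq_right₀ h0] at hu)⟩
  have elem : ∀ i : ZMod 16, i.val < 8 → ∀ t u : K, (chr m (wt i) z : K) * t = t →
      frF4 hK (chr m (wt i) z : K) * (chr m (wt i) z : K) * u = u → eP hK i t u ∈ RT hK j := fun i hi t u ht hu => by
    by_cases hij : i = j
    · subst hij; exact eP_mem hK i t u
    · rw [(zero i hi hij).1 t ht, (zero i hi hij).2 u hu, eP_zero]
      exact one_mem _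
  rw [hx']
  refine mul_mem (elem 0 (by decide) a 0 ea (mul_zero _)) (mul_mem (elem 7 (by decide) x1 y e1 ey)
    (mul_mem (elem 1 (by decide) x2 z2 e2 ez2) (mul_mem (elem 6 (by decide) t3 0 e3 (mul_zero _))
      (mul_mem (elem 5 (by decide) x4 z4 e4 ez4) (mul_mem (elem 2 (by decide) t5 0 e5 (mul_zero _))
        (mul_mem (elem 3 (by decide) x6 z6 e6 ez6) (elem 4 (by decide) t7 0 e7 (mul_zero _))))))))

/-- the rank one relation -/
theorem rank_rel (hm : 1 ≤ m) (k : Fin 2) : ∀ x ∈ RT hK (dk k + 8),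
    x = 1 ∨ ∃ p ∈ RT hK (dk k), ∃ h ∈ HB hK, ∃ p' ∈ RT hK (dk k), x = p * (h * nP hK k) * p' := by
  intro x hx
  haveI := (RR K).Finite_of_field
  obtain ⟨l, hl⟩ : ∃ l, l = (twF4 hK).nJ (k : Fin 2) := ⟨_, rfl⟩
  have hl1 : (l : ↥(chevF4.group K)) ∈ (twF4 hK).P1 := hl ▸ (twF4 hK).nJ_mem k
  -- the Weyl element differs from `nP` by an element of the torus
  have hh : ((l : ↥(chevF4.group K)) * ((nP hK k : ↥(GP hK)) : ↥(chevF4.group K))⁻¹) ∈ (RR K).HS := by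
    rw [nP_coe]
    refine (RR K).mem_HS_of_nsPerm (g := l * (⟨nw (lw k), nw_mem_NS _ (lwTab k).1⟩ : (RR K).NS)⁻¹) ?_
    rw [map_mul, map_inv, mul_inv_eq_one]
    ext r
    rw [nw_perm (L := lw k) (hL := (lwTab k).1), hl, (twF4 hK).nJ_apply (orbListF4 hK) rfl wordsTF4_ok (k : Fin 2) r, ((lwTab k).2 r).1]
  obtain ⟨lP, hlP⟩ : ∃ lP : ↥(GP hK), lP = ⟨l, hl1⟩ := ⟨_, rfl⟩
  have hh' : lP * (nP hK k)⁻¹ ∈ HB hK := by rw [hlP]; exact hh
  obtain ⟨hh0, hh1⟩ : ∃ hh0, hh0 = lP * (nP hK k)⁻¹ := ⟨_, rfl⟩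
  rw [← hh1] at hh'
  have el' : lP = hh0 * nP hK k := by rw [hh1]; group
  obtain ⟨x', hx', ex⟩ : ∃ x' ∈ RT hK (dk k), x = lP * x' * lP⁻¹ := by
    have h' : hh0⁻¹ * x * hh0 ∈ RT hK (dk k + 8) := by
      rw [← mem_cj, cj_HB_RT hK hh']; exact hx
    rw [← cj_nP, mem_cj] at h'
    exact ⟨_, h', by rw [el']; group⟩
  -- as an element of the class of positive roots
  have hpos : ∀ y ∈ RT hK (dk k), (y : ↥(chevF4.group K)) ∈ (RR K).US (posSub chevF4 auxF4 (twF4 hK).orb (k : Fin 2)) := by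
    intro y hy
    exact UL_le (fun r hr t => xG_class_mem certF4 orbF4_ho k ((dkTab k).2.1 r hr) t) (RT_le_SB hK _ hy)
  have hRT : ∀ y : ↥(GP hK), (y : ↥(chevF4.group K)) ∈ (RR K).US (posSub chevF4 auxF4 orbF4 k) → y ∈ RT hK (dk k) := by
    intro y hy
    refine SB_le_RT hK _ ?_
    obtain ⟨t, et⟩ := (chevRel certF4 K).exists_class_prod orbF4 k orbF4_ho (wordF4 k) hy
    show (y : ↥(chevF4.group K)) ∈ UL K (rl (dk k))
    rw [et]
    refine list_prod_mem fun g hg => ?_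
    obtain ⟨r, hr, rfl⟩ := List.mem_map.1 hg
    exact X_mem ((dkTab k).1 r hr) _
  rcases (twF4 hK).conj_class_normal_form (hpos x' hx') x'.2 with h1 | ⟨v, hv, u, hu, hv1, hu1, e⟩
  · left
    refine Subtype.ext ?_
    subst hlP
    subst hl
    rw [ex]
    exact h1
  right
  rw [← hl] at e
  have exv : x = (⟨v, hv1⟩ : ↥(GP hK)) * lP * ⟨u, hu1⟩ := Subtype.ext (by rw [ex, hlP]; exact e)
  have hu' : (⟨u, hu1⟩ : ↥(GP hK)) ∈ RT hK (dk k) := hRT _ hu
  obtain ⟨v0, hv0, h1, hh1', ev, hv01, hh11⟩ := (twF4 hK).exists_BS_factor hv hv1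
  -- a torus element centralising the rank one subgroup
  obtain ⟨c, hc⟩ := exists_ne_one hK hm
  obtain ⟨i0, hi0, hi0'⟩ : ∃ i : ZMod 16, i.val < 8 ∧ i ≠ dk k := ⟨1, by decide, by fin_cases k <;> decide⟩
  obtain ⟨z, hz0, hz1⟩ := exists_chr_eq hK ((dkTab k).2.2.1 i0 hi0 hi0') 1 c
  have hz : ∀ i : ZMod 16, i.val < 8 → i ≠ dk k → chr m (wt i) z ≠ 1 := by
    intro i hi hij h
    have e1 : chrPair m (wt (dk k)) (wt i) z = chrPair m (wt (dk k)) (wt i) 1 := by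
      rw [map_one]
      exact Prod.ext hz0 h
    have := (chrPair_bijective hK ((dkTab k).2.2.1 i hi hij)).1 e1
    rw [this] at hz1
    exact hc (hz1.symm.trans (by simp [chr, pw]))
  obtain ⟨Z, hZ⟩ : ∃ Z, Z = hP hK z := ⟨_, rfl⟩
  have hZH : Z ∈ HB hK := hZ ▸ hP_mem hK z
  have fixk : ∀ y ∈ RT hK (dk k), Z * y * Z⁻¹ = y := by
    rintro _ ⟨t, w, rfl⟩
    rw [hZ, hP_eP, hz0, Units.val_one, map_one, one_mul, one_mul, one_mul]
  have hz8 : chr m (wt (dk k + 8)) z = 1 := by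
    rw [(dkTab k).2.2.2, chr_smul hK, hz0, pw_one_arg]
  have fix8 : Z * x * Z⁻¹ = x := by
    obtain ⟨t, w, rfl⟩ := hx
    rw [hZ, hP_eP, hz8, Units.val_one, map_one, one_mul, one_mul, one_mul]
  have hlN : ((lP * Z⁻¹ * lP⁻¹ : ↥(GP hK)) : ↥(chevF4.group K)) ∈ (RR K).HS := by
    rw [hlP]
    exact (RR K).HS_conj l.2 (inv_mem hZH)
  obtain ⟨b', hb'⟩ : ∃ b', b' = Z * ⟨v, hv1⟩ * (lP * Z⁻¹ * lP⁻¹) := ⟨_, rfl⟩
  have eZ : x = b' * lP * ⟨u, hu1⟩ := by
    calc x = Z * x * Z⁻¹ := fix8.symm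
      _ = Z * ⟨v, hv1⟩ * (lP * Z⁻¹ * lP⁻¹) * lP * (Z * ⟨u, hu1⟩ * Z⁻¹) := by rw [exv]; group
      _ = _ := by rw [fixk _ hu', hb']
  have hbB : (b' : ↥(chevF4.group K)) ∈ (RR K).BS := by
    rw [hb']
    exact mul_mem (mul_mem ((RR K).HS_le_BS hZH) hv) ((RR K).HS_le_BS hlN)
  have hinv : u ∈ (RR K).US (invSet ((RR K).nsPerm l)) := by
    have h2 := hu
    rw [← (twF4 hK).nJ_inv k] at h2
    rw [hl]; exact h2
  have eb := ((RR K).bnu_unique (n := l) hbB hv hinv hinv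
    (by
      have := congrArg Subtype.val (eZ.symm.trans exv)
      simpa [hlP] using this)).1
  have hs : (Z : ↥(chevF4.group K)) * v0 * (Z : ↥(chevF4.group K))⁻¹ = v0 := by
    have e1 : ((Z : ↥(chevF4.group K)) * v0 * (Z : ↥(chevF4.group K))⁻¹) *
        ((Z : ↥(chevF4.group K)) * h1 * ((lP * Z⁻¹ * lP⁻¹ : ↥(GP hK)) : ↥(chevF4.group K))) = v0 * h1 := by
      have e2 : (b' : ↥(chevF4.group K)) = (Z : ↥(chevF4.group K)) * v *
          ((lP * Z⁻¹ * lP⁻¹ : ↥(GP hK)) : ↥(chevF4.group K)) := by rw [hb']; rfl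
      rw [← ev, ← eb, e2, ev]
      group
    refine ((RR K).UP_HS_unique ?_ hv0 (mul_mem (mul_mem hZH hh1') hlN) hh1' e1).1
    exact (Subgroup.mem_normalizer_iff.1 ((RR K).HS_le_normalizer_US _ hZH) v0).1 hv0
  have hv0T : (⟨v0, hv01⟩ : ↥(GP hK)) ∈ RT hK (dk k) :=
    mem_RT_of_commute hK hv0 _ z hz (by rw [← hZ]; exact Subtype.ext hs)
  refine ⟨_, hv0T, ⟨h1, hh11⟩ * hh0, mul_mem (show (⟨h1, hh11⟩ : ↥(GP hK)) ∈ HB hK from hh1') hh', _, hu', ?_⟩
  rw [exv, el']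
  rw [show (⟨v, hv1⟩ : ↥(GP hK)) = ⟨v0, hv01⟩ * ⟨h1, hh11⟩ from Subtype.ext ev]
  group

end CfsgLib.Lie.Chev.TwGroups.F4Mult
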