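import Cfsg.Agent.Lib.Lie.Twisted.F4Mult.Group
import Cfsg.Agent.Lib.Lie.Rel.Torus

/-!
# Representations of Levi subgroups on the root spaces of one level
-/

set_option autoImplicit false

namespace CfsgLib.Lie.Chev.TwGroups.F4Mult

open Cfsg.Lie

/-- the checks for the invariant span of `W` under the roots of `L` -/
def chkLevel (W L : List ℕ) : Bool :=
  W.all (fun s => Nat.blt s chevF4.nroots) && decide W.Nodup &&
  L.all fun r => Nat.blt r chevF4.nroots && W.all fun s =>
    !Nat.beq s r && !Nat.beq s (chevF4.negIdx.getD r 0) &&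
      (List.range chevF4.nroots).all fun u => W.contains u || (chevF4.chainCoeff r s u).isEmpty

/-- the terms of an entry -/
def entry (W : List ℕ) (r i j : ℕ) : List (ℕ × ℤ) := chevF4.chainCoeff r (W.getD j 0) (W.getD i 0)

/-- the root vectors of a level -/
def levelRoot (W : List ℕ) (i : Fin W.length) : chevF4.Idx :=
  if h : W.getD i 0 < chevF4.nroots then Sum.inr ⟨W.getD i 0, h⟩ else Sum.inr ⟨0, by decide +kernel⟩

theorem levelRoot_eq {W L : List ℕ} (h : chkLevel W L = true) (i : Fin W.length) :
    ∃ hi : W.getD i 0 < chevF4.nroots, levelRoot W i = Sum.inr ⟨W.getD i 0, hi⟩ := by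
  simp only [chkLevel, Bool.and_eq_true, List.all_eq_true, nat_blt_iff, decide_eq_true_iff] at h
  have hi : W.getD i 0 < chevF4.nroots := h.1.1 _ (by rw [List.getD_eq_getElem _ _ i.2]; exact List.getElem_mem _)
  exact ⟨hi, dif_pos hi⟩

theorem levelRoot_injective {W L : List ℕ} (h : chkLevel W L = true) : Function.Injective (levelRoot W) := by
  intro i j e
  obtain ⟨hi, ei⟩ := levelRoot_eq h i
  obtain ⟨hj, ej⟩ := levelRoot_eq h j
  rw [ei, ej, Sum.inr.injEq, Fin.mk.injEq, List.getD_eq_getElem _ _ i.2, List.getD_eq_getElem _ _ j.2] at e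
  simp only [chkLevel, Bool.and_eq_true, decide_eq_true_iff] at h
  exact Fin.ext ((List.Nodup.getElem_inj_iff h.1.2).1 e)

variable (K : Type*) [Field K]

/-- the matrices preserving the span of a level -/
def levelStab (W : List ℕ) : Submonoid (GL chevF4.Idx K) where
  carrier := {g | ∀ row, row ∉ Set.range (levelRoot W) → ∀ j, (g : Matrix chevF4.Idx chevF4.Idx K) row (levelRoot W j) = 0}
  one_mem' := fun row hrow j => by
    rw [Units.val_one, Matrix.one_apply_ne]
    rintro rfl
    exact hrow ⟨j, rfl⟩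
  mul_mem' := fun {g h} hg hh row hrow j => by
    rw [Units.val_mul, Matrix.mul_apply]
    refine Finset.sum_eq_zero fun x _ => ?_
    by_cases hx : x ∈ Set.range (levelRoot W)
    · obtain ⟨i, rfl⟩ := hx
      rw [hg row hrow i, zero_mul]
    · rw [hh x hx j, mul_zero]

variable {K}

theorem xe_mem_levelStab {W L : List ℕ} (h : chkLevel W L = true) {r : ℕ} (hr : r ∈ L) (t : K) :
    ((xG certF4 K r t : ↥(chevF4.group K)) : GL chevF4.Idx K) ∈ levelStab K W ∧
    ∀ i j : Fin W.length, ((xG certF4 K r t : ↥(chevF4.group K)) : GL chevF4.Idx K).1 (levelRoot W i) (levelRoot W j) =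
      (if i = j then 1 else 0) + ((entry W r i j).map fun km => ((km.2 : ℤ) : K) * t ^ km.1).sum := by
  have h' := h
  simp only [chkLevel, Bool.and_eq_true, List.all_eq_true, nat_blt_iff, decide_eq_true_iff, Bool.not_eq_true',
    Bool.or_eq_true, List.mem_range, List.contains_iff_mem, List.isEmpty_iff] at h'
  obtain ⟨hr', hW⟩ := h'.2 r hr
  have col : ∀ (row : chevF4.Idx) (j : Fin W.length),
      ((xG certF4 K r t : ↥(chevF4.group K)) : GL chevF4.Idx K).1 row (levelRoot W j) =
        match row with
        | Sum.inl _ => 0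
        | Sum.inr u => (if u.val = W.getD j 0 then 1 else 0) +
            ((chevF4.chainCoeff r (W.getD j 0) u).map fun km => ((km.2 : ℤ) : K) * t ^ km.1).sum := by
    intro row j
    obtain ⟨hj, ej⟩ := levelRoot_eq h j
    obtain ⟨⟨n1, n2⟩, -⟩ := hW (W.getD j 0) (by rw [List.getD_eq_getElem _ _ j.2]; exact List.getElem_mem _)
    rw [← Bool.not_eq_true, nat_beq_iff] at n1 n2
    rw [xG_val, ej, ChevalleyDatum.x, dif_pos hr', ChevalleyDatum.xMat, Matrix.of_apply]
    simp only [Fin.ext_iff, n1, n2, if_false]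
    cases row <;> rfl
  refine ⟨fun row hrow j => ?_, fun i j => ?_⟩
  · rw [col]
    cases row with
    | inl _ => rfl
    | inr u =>
      obtain ⟨hj, ej⟩ := levelRoot_eq h j
      have hmem : W.getD j 0 ∈ W := by rw [List.getD_eq_getElem _ _ j.2]; exact List.getElem_mem _
      have hu : ¬ (u : ℕ) ∈ W := by
        intro hu
        obtain ⟨i, hi, e⟩ := List.getElem_of_mem hu
        obtain ⟨hi', ei⟩ := levelRoot_eq h ⟨i, hi⟩
        refine hrow ⟨⟨i, hi⟩, ei.trans ?_⟩
        congr 1
        exact Fin.ext (by show W.getD i 0 = (u : ℕ); rw [List.getD_eq_getElem _ _ hi, e])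
      simp only
      rw [((hW _ hmem).2 u u.2).resolve_left hu, if_neg (fun e : (u : ℕ) = W.getD j 0 => hu (e ▸ hmem))]
      simp
  · rw [col]
    obtain ⟨hi, ei⟩ := levelRoot_eq h i
    rw [ei]
    simp only
    congr 1
    refine if_congr ⟨fun e => ?_, fun e => e ▸ rfl⟩ rfl rfl
    have hnd : W.Nodup := h'.1.2
    rw [List.getD_eq_getElem _ _ i.2, List.getD_eq_getElem _ _ j.2] at e
    exact Fin.ext ((List.Nodup.getElem_inj_iff hnd).1 e)

variable {W L : List ℕ} (h : chkLevel W L = true)

include h in
theorem UL_le_levelStab {g : ↥(chevF4.group K)} (hg : g ∈ UL K L) :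
    (g : GL chevF4.Idx K) ∈ levelStab K W := by
  unfold UL Rel.US at hg
  refine closure_induction_symm (RR K).gens_symm ?_ (fun a ha b hb => ?_) hg
  · exact one_mem (levelStab K W)
  · obtain ⟨r, hr, t, rfl⟩ := ha
    exact mul_mem (xe_mem_levelStab h hr t).1 hb

/-- the representation of a Levi subgroup on a level -/
def levelRep : ↥(UL K L) →* GL (Fin W.length) K :=
  MonoidHom.toHomUnits
    { toFun := fun g => ((g : ↥(chevF4.group K)) : GL chevF4.Idx K).1.submatrix (levelRoot W) (levelRoot W)
      map_one' := by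
        simp only [OneMemClass.coe_one, Units.val_one]
        exact Matrix.submatrix_one _ (levelRoot_injective h)
      map_mul' := fun a b => by
        ext i j
        simp only [Subgroup.coe_mul, Units.val_mul, Matrix.submatrix_apply, Matrix.mul_apply]
        refine (Fintype.sum_of_injective _ (levelRoot_injective h) _ _ (fun x hx => ?_) fun k => rfl).symm
        rw [UL_le_levelStab h b.2 x hx j, mul_zero] }

theorem levelRep_apply (g : ↥(UL K L)) (i j : Fin W.length) :
    (levelRep h g : Matrix (Fin W.length) (Fin W.length) K) i j =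
      ((g : ↥(chevF4.group K)) : GL chevF4.Idx K).1 (levelRoot W i) (levelRoot W j) := rfl

theorem levelRep_X {r : ℕ} (hr : r ∈ L) (t : K) (hx : xG certF4 K r t ∈ UL K L) (i j : Fin W.length) :
    (levelRep h ⟨xG certF4 K r t, hx⟩ : Matrix (Fin W.length) (Fin W.length) K) i j =
      (if i = j then 1 else 0) + ((entry W r i j).map fun km => ((km.2 : ℤ) : K) * t ^ km.1).sum :=
  (xe_mem_levelStab h hr t).2 i j

/-- each root of `L` is strictly lowering or strictly raising on `W` -/
def chkTri (W L : List ℕ) : Bool :=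
  L.all fun r =>
    (List.range W.length).all (fun i => (List.range W.length).all fun j => (entry W r i j).isEmpty || Nat.blt j i) ||
    (List.range W.length).all fun i => (List.range W.length).all fun j => (entry W r i j).isEmpty || Nat.blt i j

theorem levelRep_det (ht : chkTri W L = true) (g : ↥(UL K L)) :
    (levelRep h g : Matrix (Fin W.length) (Fin W.length) K).det = 1 := by
  obtain ⟨g, hg⟩ := g
  suffices ∀ g : ↥(chevF4.group K), ∀ hg : g ∈ UL K L,
      (levelRep h ⟨g, hg⟩ : Matrix (Fin W.length) (Fin W.length) K).det = 1 from this g hg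
  intro g hg
  have key : ∀ r ∈ L, ∀ (t : K) (hx : xG certF4 K r t ∈ UL K L),
      (levelRep h ⟨xG certF4 K r t, hx⟩ : Matrix (Fin W.length) (Fin W.length) K).det = 1 := by
    intro r hr t hx
    simp only [chkTri, List.all_eq_true, Bool.or_eq_true, List.isEmpty_iff, List.mem_range, nat_blt_iff] at ht
    rcases ht r hr with hT | hT
    · rw [Matrix.det_of_lowerTriangular]
      · refine Finset.prod_eq_one fun i _ => ?_
        rw [levelRep_X h hr, if_pos rfl, ((hT i i.2 i i.2).resolve_right (lt_irrefl _))]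
        simp
      · intro i j hij
        change i < j at hij
        rw [levelRep_X h hr, if_neg hij.ne, ((hT i i.2 j j.2).resolve_right fun e => absurd hij (not_lt.2 e.le))]
        simp
    · rw [Matrix.det_of_upperTriangular]
      · refine Finset.prod_eq_one fun i _ => ?_
        rw [levelRep_X h hr, if_pos rfl, ((hT i i.2 i i.2).resolve_right (lt_irrefl _))]
        simp
      · intro i j hij
        change j < i at hij
        rw [levelRep_X h hr, if_neg hij.ne', ((hT i i.2 j j.2).resolve_right fun e => absurd hij (not_lt.2 e.le))]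
        simp
  let P : Submonoid ↥(chevF4.group K) :=
    { carrier := {g | ∃ hg : g ∈ UL K L, (levelRep h ⟨g, hg⟩ : Matrix (Fin W.length) (Fin W.length) K).det = 1}
      one_mem' := ⟨one_mem _, by
        show ((levelRep (K := K) h 1 : GL (Fin W.length) K) : Matrix (Fin W.length) (Fin W.length) K).det = 1
        rw [map_one, Units.val_one, Matrix.det_one]⟩
      mul_mem' := fun {a b} ⟨ha, ea⟩ ⟨hb, eb⟩ => ⟨mul_mem ha hb, by
        show (levelRep h (⟨a, ha⟩ * ⟨b, hb⟩) : Matrix (Fin W.length) (Fin W.length) K).det = 1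
        rw [map_mul, Units.val_mul, Matrix.det_mul, ea, eb, one_mul]⟩ }
  have : g ∈ P := by
    unfold UL Rel.US at hg
    refine closure_induction_symm (RR K).gens_symm (one_mem P) (fun a ha b hb => mul_mem ?_ hb) hg
    obtain ⟨r, hr, t, rfl⟩ := ha
    exact ⟨X_mem hr t, key r hr t _⟩
  exact this.2

theorem levelRep_torus {m : ℕ} (g : ↥(UL K L)) (x : Kˣ × Kˣ) (e : (g : ↥(chevF4.group K)) = psiF4 K m x) :
    (levelRep h g : Matrix (Fin W.length) (Fin W.length) K) =
      Matrix.diagonal fun i : Fin W.length => (ev m (W.getD (i : ℕ) 0) x : K) := by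
  classical
  ext i j
  have hm := torusHom_mat certF4 K (tupF4 (x.1 ^ 2 ^ m) (x.2 ^ 2 ^ m) x.2 x.1)
  have hm' : ((psiF4 K m x : ↥(chevF4.group K)) : GL chevF4.Idx K).1 = _ := hm
  obtain ⟨hi, ei⟩ := levelRoot_eq h i
  obtain ⟨hj, ej⟩ := levelRoot_eq h j
  rw [levelRep_apply, e, hm', Matrix.diagonal_apply, Matrix.diagonal_apply]
  refine if_congr (levelRoot_injective h).eq_iff ?_ rfl
  rw [ei, Sum.elim_inr]
  refine congrArg Units.val ?_
  have hr : ∀ f : Fin chevF4.rank → Kˣ, (∏ i, f i) =
      f ⟨0, by decide +kernel⟩ * (f ⟨1, by decide +kernel⟩ * (f ⟨2, by decide +kernel⟩ * f ⟨3, by decide +kernel⟩)) := by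
    intro f
    rw [← (finCongr lengthF4.symm).prod_comp, Fin.prod_univ_four]
    simp only [mul_assoc]; rfl
  rw [hr]
  simp [ev, tupF4]

end CfsgLib.Lie.Chev.TwGroups.F4Mult
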