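import Cfsg.Agent.Lib.Lie.Twisted.F4Mult.Rigid
import Cfsg.Agent.Lib.Lie.Twisted.OctCover.Main

/-!
# The large Ree groups have trivial multiplier
-/

set_option autoImplicit false

namespace CfsgLib.Lie.Chev.TwGroups.F4Mult

open Cfsg.Lie
open CfsgLib.Lie.G2Cover (cj mem_cj)
open CfsgLib.Lie.OctCover (spanR)
open scoped commutatorElement

universe u

variable {K : Type u} [Field K] [Fintype K] {m : ℕ} (hK : Fintype.card K = 2 ^ (2 * m + 1))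

theorem sys_fpf (hm : 1 ≤ m) (k : Fin 2) : ∃ h ∈ HB hK ⊓ Mk hK k, ∀ s ∈ RT hK (dk k), ⁅h, s⁆ = 1 → s = 1 := by
  obtain ⟨c, hc⟩ := exists_ne_one hK hm
  refine ⟨tor hK k c, Subgroup.mem_inf.2 ⟨tor_mem_HB hK k c, tor_mem_Mk hK k c⟩,
    fpf_of_ne hK (dk k) (h := tc k c) fun h => hc (chr_sel_injective (m := m) hK k ?_)⟩
  rw [h, chr_tc, pw_one_arg]

theorem sys_fpf1 (hm : 1 ≤ m) : ∃ h ∈ HB hK, ∀ s ∈ RT hK 1, ⁅h, s⁆ = 1 → s = 1 := by
  obtain ⟨c, hc⟩ := exists_ne_one hK hm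
  obtain ⟨h, rfl⟩ := scalar_one hK c
  exact ⟨_, hP_mem hK h, fpf_of_ne hK 1 hc⟩

theorem sys_sqb : ∃ h ∈ HB hK, ⁅h, nbP hK⁆ = nbP hK * nbP hK := by
  have hM := mul_mem (nP_mem hK 1) (nP_mem hK 1)
  obtain ⟨d, hd⟩ := torus_Mk hK 1 (nP_sq hK 1) hM
  obtain ⟨e, rfl⟩ := units_sq_surj hK d
  refine ⟨tor hK 1 e, tor_mem_HB hK 1 e, ?_⟩
  have h2 := nP_tor' hK 1 e⁻¹
  rw [inv_inv, map_inv] at h2
  show ⁅tor hK 1 e, nP hK 1⁆ = nP hK 1 * nP hK 1
  rw [hd, commutatorElement_def, show tor hK 1 e * nP hK 1 * (tor hK 1 e)⁻¹ * (nP hK 1)⁻¹ =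
    tor hK 1 e * (nP hK 1 * (tor hK 1 e)⁻¹ * (nP hK 1)⁻¹) by group, h2, ← map_mul]

theorem braid_eP (k : ZMod 16) (t w : K) :
    (naP hK * nbP hK * naP hK * nbP hK * naP hK * nbP hK * naP hK) * eP hK k t w *
      (naP hK * nbP hK * naP hK * nbP hK * naP hK * nbP hK * naP hK)⁻¹ = eP hK (14 - k) t w := by
  calc _ = naP hK * (nbP hK * (naP hK * (nbP hK * (naP hK * (nbP hK * (naP hK * eP hK k t w * (naP hK)⁻¹) *
      (nbP hK)⁻¹) * (naP hK)⁻¹) * (nbP hK)⁻¹) * (naP hK)⁻¹) * (nbP hK)⁻¹) * (naP hK)⁻¹ := by group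
    _ = eP hK (8 - (6 - (8 - (6 - (8 - (6 - (8 - k))))))) t w := by
      simp only [naP_eP, nbP_eP]
    _ = _ := by rw [show (8 : ZMod 16) - (6 - (8 - (6 - (8 - (6 - (8 - k)))))) = 14 - k by ring]

theorem sys_hbraid : ∃ h ∈ HB hK,
    (naP hK * nbP hK * naP hK * nbP hK * naP hK * nbP hK * naP hK) * nbP hK *
      (naP hK * nbP hK * naP hK * nbP hK * naP hK * nbP hK * naP hK)⁻¹ = h * nbP hK * h⁻¹ := by
  refine ⟨1, one_mem _, ?_⟩
  rw [one_mul, inv_one, mul_one]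
  nth_rewrite 4 [nbP_eq]
  nth_rewrite 7 [nbP_eq]
  rw [← MulAut.conj_apply, map_mul, map_mul, MulAut.conj_apply, MulAut.conj_apply, MulAut.conj_apply, braid_eP,
    braid_eP, braid_eP, show (14 : ZMod 16) - 7 = 7 by decide, show (14 : ZMod 16) - 15 = 15 by decide]

theorem meet_one {x y : Kˣ} (h : nbP hK * tor hK 0 y * (nbP hK)⁻¹ = tor hK 0 x) : y = 1 := by
  have hk : ∀ k : ZMod 16, chr m (wt (6 - k)) (tc 0 x) = chr m (wt k) (tc 0 y) := by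
    intro k
    have h1 := congrArg (fun g => g * eP hK (6 - k) 1 0 * g⁻¹) h
    rw [show nbP hK * tor hK 0 y * (nbP hK)⁻¹ * eP hK (6 - k) 1 0 * (nbP hK * tor hK 0 y * (nbP hK)⁻¹)⁻¹ =
      nbP hK * (tor hK 0 y * ((nbP hK)⁻¹ * eP hK (6 - k) 1 0 * nbP hK) * (tor hK 0 y)⁻¹) * (nbP hK)⁻¹ by group,
      ← nbP_eP hK k 1 0, show (nbP hK)⁻¹ * (nbP hK * eP hK k 1 0 * (nbP hK)⁻¹) * nbP hK = eP hK k 1 0 by group,
      nbP_eP] at h1
    change nbP hK * (hP hK (tc 0 y) * eP hK k 1 0 * (hP hK (tc 0 y))⁻¹) * (nbP hK)⁻¹ =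
      hP hK (tc 0 x) * eP hK (6 - k) 1 0 * (hP hK (tc 0 x))⁻¹ at h1
    rw [hP_eP, hP_eP, nbP_eP] at h1
    have := (el_inj hK (6 - k) (congrArg Subtype.val h1)).1
    rw [mul_one, mul_one] at this
    exact (Units.ext this).symm
  have e0 := hk 0
  have e6 := hk 6
  rw [show (6 : ZMod 16) - 0 = 6 by decide, chr_tc, chr_tc] at e0
  rw [show (6 : ZMod 16) - 6 = 0 by decide, chr_tc, chr_tc] at e6
  rw [show sel (0 : Fin 2) (wt 6) = -s2 by decide +kernel, show sel (0 : Fin 2) (wt 0) = 2 by decide +kernel] at e0 e6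
  have e := congrArg (pw m (-s2)) e6
  rw [← pw_mul hK, ← pw_mul hK, mul_comm (-s2) 2, pw_mul hK, e0, ← pw_mul hK,
    show (2 : ℤ√2) * 2 = 2 + (-s2) * (-s2) by decide +kernel, pw_add] at e
  exact pw_eq_one hK (d := 2) (by decide +kernel) (mul_eq_right.1 e)

theorem sys_hHmeet : ∀ h ∈ HB hK ⊓ Mk hK 0, (nbP hK)⁻¹ * h * nbP hK ∈ Mk hK 0 →
    ∀ y ∈ Mk hK 1, h * y = y * h := by
  intro h hh hmem y _
  obtain ⟨hH, hM⟩ := Subgroup.mem_inf.1 hh
  obtain ⟨x, rfl⟩ := torus_Mk hK 0 hH hM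
  have hH' : (nbP hK)⁻¹ * tor hK 0 x * nbP hK ∈ HB hK := by
    rw [← mem_cj, show cj (nbP hK) (HB hK) = HB hK from cj_nP_HB hK 1]
    exact hH
  obtain ⟨z, hz⟩ := torus_Mk hK 0 hH' hmem
  have h1 : nbP hK * tor hK 0 z * (nbP hK)⁻¹ = tor hK 0 x := by rw [← hz]; group
  rw [← h1, meet_one hK h1, map_one]
  simp

theorem sys_hHgen : ∀ h ∈ HB hK, ∃ a ∈ HB hK ⊓ Mk hK 0, ∃ b ∈ HB hK ⊓ Mk hK 0, h = a * (nbP hK * b * (nbP hK)⁻¹) := by
  haveI := (RR K).Finite_of_field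
  obtain ⟨F, hF⟩ : ∃ F : Kˣ × Kˣ → ↥(HB hK),
      ∀ p, (F p : ↥(GP hK)) = tor hK 0 p.1 * (nbP hK * tor hK 0 p.2 * (nbP hK)⁻¹) :=
    ⟨fun p => ⟨_, mul_mem (tor_mem_HB hK 0 p.1) (nP_conj_HB hK 1 (tor_mem_HB hK 0 p.2))⟩, fun _ => rfl⟩
  have hb : Function.Bijective F := by
    refine (Nat.bijective_iff_injective_and_card F).2 ⟨?_, ?_⟩
    · intro p q e
      have e' := congrArg Subtype.val e
      rw [hF, hF] at e'
      have h1 : nbP hK * tor hK 0 (p.2 * q.2⁻¹) * (nbP hK)⁻¹ = tor hK 0 (p.1⁻¹ * q.1) := by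
        rw [map_mul, map_mul, map_inv, map_inv]
        calc nbP hK * (tor hK 0 p.2 * (tor hK 0 q.2)⁻¹) * (nbP hK)⁻¹ =
            (tor hK 0 p.1)⁻¹ * (tor hK 0 p.1 * (nbP hK * tor hK 0 p.2 * (nbP hK)⁻¹)) *
              (nbP hK * tor hK 0 q.2 * (nbP hK)⁻¹)⁻¹ := by group
          _ = _ := by rw [e']; group
      have h2 := meet_one hK h1
      rw [h2, map_one, mul_one, mul_inv_cancel, eq_comm, ← map_one (tor hK 0)] at h1
      exact Prod.ext (inv_mul_eq_one.1 (tor_injective hK 0 h1)) (mul_inv_eq_one.1 h2)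
    · refine Nat.card_congr (Equiv.ofBijective (fun p => (⟨hP hK p, hP_mem hK p⟩ : ↥(HB hK))) ⟨?_, ?_⟩)
      · exact fun p q e => hP_injective hK (congrArg Subtype.val e)
      · intro x
        obtain ⟨p, e⟩ := exists_hP hK x.2
        exact ⟨p, Subtype.ext e.symm⟩
  intro h hh
  obtain ⟨p, e⟩ := hb.2 ⟨h, hh⟩
  refine ⟨tor hK 0 p.1, Subgroup.mem_inf.2 ⟨tor_mem_HB hK 0 _, tor_mem_Mk hK 0 _⟩,
    tor hK 0 p.2, Subgroup.mem_inf.2 ⟨tor_mem_HB hK 0 _, tor_mem_Mk hK 0 _⟩, ?_⟩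
  rw [← hF, e]

/-- the number of steps of the rotation to the basic direction -/
def steps (j : ZMod 16) : ℕ := ((base j).val + 16 - j.val) % 16 / 2

theorem stepsTab : ∀ j : ZMod 16, j + 2 * (steps j : ZMod 16) = base j := by decide +kernel

theorem distTab : ∀ k : Fin 2, ∀ d : ZMod 16, d ≠ dk k →
    (Nat.blt d.val 8 && closedB (rl d) && (rl (dk k)).all (fun r => !(rl d).contains r) ||
      (rl d).all fun r => Nat.blt r (half chevF4)) = true ∧ closedB (rl (dk k)) = true := by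
  decide +kernel

theorem sys_dist : ∀ j k, RT hK j = RT hK k → j = k := by
  have shift : ∀ j k, RT hK j = RT hK k → RT hK (j + 2) = RT hK (k + 2) := fun j k h => by
    have := congrArg (fun U => cj (naP hK) (cj (nbP hK) U)) h
    simp only [cj_nbP, cj_naP] at this
    rwa [show (8 : ZMod 16) - (6 - j) = j + 2 by ring, show (8 : ZMod 16) - (6 - k) = k + 2 by ring] at this
  have iter : ∀ (n : ℕ) j k, RT hK j = RT hK k → RT hK (j + 2 * n) = RT hK (k + 2 * n) := fun n => by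
    induction n with
    | zero => intro j k h; simpa using h
    | succ n ih =>
      intro j k h
      have := shift _ _ (ih j k h)
      push_cast
      rwa [mul_add, mul_one, ← add_assoc, ← add_assoc]
  have base' : ∀ (k : Fin 2) d, RT hK (dk k) = RT hK d → d = dk k := by
    intro k d h
    by_contra hd
    have hne : eP hK (dk k) 1 0 ≠ 1 := fun e =>
      one_ne_zero (α := K) (eP_base_inj hK k (e.trans (eP_zero hK (dk k)).symm))
    have hm' : eP hK (dk k) 1 0 ∈ SB hK (rl d) := RT_le_SB hK d (h ▸ eP_mem hK (dk k) 1 0)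
    obtain ⟨hcase, hck⟩ := distTab k d hd
    simp only [Bool.or_eq_true, Bool.and_eq_true] at hcase
    rcases hcase with ⟨⟨-, hc⟩, hdis⟩ | hneg
    · exact hne (Subtype.ext (Subgroup.mem_bot.1 ((UL_inf (K := K) hck hc hdis) ▸
        Subgroup.mem_inf.2 ⟨el_mem_UL hK (dk k) 1 0, hm'⟩)))
    · exact hne (Subtype.ext ((RR K).BS_inf_UN ((RR K).UP_le_BS (UP_of_RT hK k (eP_mem hK (dk k) 1 0)))
        (UL_le_UN hneg hm')))
  intro j k h
  have h2 := iter (steps j) j k h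
  rw [stepsTab] at h2
  have key : k + 2 * (steps j : ZMod 16) = base j := by
    rcases base_cases j with e | e <;> rw [e] at h2 ⊢
    · exact base' 0 _ h2
    · exact base' 1 _ h2
  exact add_right_cancel ((stepsTab j).trans key.symm)

theorem sys_dH : HB hK ⊓ spanR (RT hK) 0 8 = ⊥ :=
  (Subgroup.eq_bot_iff_forall _).2 fun x hx => Subtype.ext (Subgroup.mem_bot.1 (by
    obtain ⟨h1, h2⟩ := Subgroup.mem_inf.1 hx
    rw [← (RR K).UP_inf_HS]
    exact Subgroup.mem_inf.2 ⟨spanR_le_UP hK h2, h1⟩))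

theorem sys_hBN : ∀ n ∈ HB hK ⊔ Subgroup.closure {naP hK, nbP hK}, n ∈ HB hK ⊔ spanR (RT hK) 0 8 → n ∈ HB hK := by
  intro n h1 h2
  have hN : HB hK ⊔ Subgroup.closure {naP hK, nbP hK} ≤ (RR K).NS.subgroupOf (GP hK) := by
    refine sup_le (fun x hx => (RR K).HS_le_NS hx) ((Subgroup.closure_le _).2 ?_)
    rintro x (rfl | rfl)
    · exact nw_mem_NS _ (by decide)
    · exact nw_mem_NS _ (by decide)
  have hB : HB hK ⊔ spanR (RT hK) 0 8 ≤ (RR K).BS.subgroupOf (GP hK) :=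
    sup_le (fun x hx => (RR K).HS_le_BS hx) fun x hx => (RR K).UP_le_BS (spanR_le_UP hK hx)
  have h3 : (n : ↥(chevF4.group K)) ∈ (RR K).BS ⊓ (RR K).NS := Subgroup.mem_inf.2 ⟨hB h2, hN h1⟩
  rw [(RR K).BS_inf_NS] at h3
  exact h3

theorem genLe : GP hK ≤ (Mk hK 0 ⊔ Mk hK 1).map (GP hK).subtype := by
  show (twistedF4 K (2 ^ m)).subgroupOf (chevF4.group K) ≤ _
  rw [show (twistedF4 K (2 ^ m)).subgroupOf (chevF4.group K) = Subgroup.closure (wordG certF4 '' f4Words K (2 ^ m)) from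
    genSubgroup_subgroupOf certF4 _, Subgroup.closure_le]
  rintro _ ⟨w, hw, rfl⟩
  have hA : ∀ (k : ZMod 16), k = 0 ∨ k = 8 → ∀ t u, eP hK k t u ∈ Mk hK 0 ⊔ Mk hK 1 := by
    rintro k (rfl | rfl) t u
    · exact Subgroup.mem_sup_left (RT_le_Mk hK 0 (eP_mem hK 0 t u))
    · exact Subgroup.mem_sup_left (RT8_le_Mk hK 0 (eP_mem hK 8 t u))
  have hB : ∀ (k : ZMod 16), k = 7 ∨ k = 15 → ∀ t u, eP hK k t u ∈ Mk hK 0 ⊔ Mk hK 1 := by
    rintro k (rfl | rfl) t u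
    · exact Subgroup.mem_sup_right (RT_le_Mk hK 1 (eP_mem hK 7 t u))
    · exact Subgroup.mem_sup_right (RT8_le_Mk hK 1 (eP_mem hK 15 t u))
  rcases hw with ⟨t, rfl | rfl⟩ | ⟨t, u, rfl | rfl⟩
  · refine ⟨eP hK 0 t 0, hA 0 (Or.inl rfl) t 0, ?_⟩
    show F4Inv.cA (frF4 hK) 33 24 t = _
    simp only [f4PairWord, wordG_cons, wordG_nil, mul_one, F4Inv.cA, frF4_apply, f4p1, f4p4]
  · refine ⟨eP hK 8 t 0, hA 8 (Or.inr rfl) t 0, ?_⟩
    show F4Inv.cA (frF4 hK) 14 23 t = _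
    simp only [f4PairWord, wordG_cons, wordG_nil, mul_one, F4Inv.cA, frF4_apply, f4m1, f4m4]
  · refine ⟨eP hK 7 t u, hB 7 (Or.inl rfl) t u, ?_⟩
    show F4Inv.cB (frF4 hK) 27 25 28 30 t u = _
    simp only [b2ClassWord, wordG_cons, wordG_nil, mul_one, F4Inv.cB, frF4_apply, f4a, f4b, f4ab, f4aab]
    congr 4 <;> ring
  · refine ⟨eP hK 15 t u, hB 15 (Or.inr rfl) t u, ?_⟩
    show F4Inv.cB (frF4 hK) 20 22 19 17 t u = _
    simp only [b2ClassWord, wordG_cons, wordG_nil, mul_one, F4Inv.cB, frF4_apply, f4ma, f4mb, f4mab, f4maab]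
    congr 4 <;> ring

theorem sys_gen : RT hK 0 ⊔ RT hK 8 ⊔ (RT hK 7 ⊔ RT hK 15) = ⊤ :=
  eq_top_iff.2 fun x _ => by
    obtain ⟨y, hy, e⟩ := Subgroup.mem_map.1 (genLe hK x.2)
    rwa [Subtype.ext e] at hy

open F4Inv in
theorem tab02 : MonCollect.chkSame chevF4 (w0 (some 0) ++ w5 (some 1)) (w5 (some 1) ++ w0 (some 0)) = true := by
  decide +kernel

theorem sys_cR02 : ∀ x ∈ RT hK 0, ∀ y ∈ RT hK 2, x * y = y * x := by
  haveI := charF4 hK
  rintro _ ⟨t, u, rfl⟩ _ ⟨s, v, rfl⟩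
  refine Subtype.ext ?_
  show F4Inv.cA (frF4 hK) 33 24 t * F4Inv.cA (frF4 hK) 38 43 s = F4Inv.cA (frF4 hK) 38 43 s * F4Inv.cA (frF4 hK) 33 24 t
  have h := MonCollect.word_eq_of_chk (chevRel certF4 K) (F4Inv.atoms (frF4 hK) [t, s]) tab02
  simp only [MonCollect.word_append] at h
  rw [show F4Inv.w0 = F4Inv.wA 33 24 from rfl, show F4Inv.w5 = F4Inv.wA 38 43 from rfl,
    F4Inv.word_wA (frF4 hK) _ _ _ _ (by simp [F4Inv.inR]), F4Inv.word_wA (frF4 hK) _ _ _ _ (by simp [F4Inv.inR])] at h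
  simpa [F4Inv.po] using h

/-- the root system of the large Ree groups -/
noncomputable def sysF4 (hm : 1 ≤ m) : CfsgLib.Lie.OctCover.Sys ↥(GP hK) where
  H := HB hK
  R := RT hK
  U1 := UT hK
  na := naP hK
  nb := nbP hK
  hH := HB_comm hK
  hR _ hh k := cj_HB_RT hK hh k
  hU _ hh := cj_UT hK hh
  naH := cj_nP_HB hK 0
  nbH := cj_nP_HB hK 1
  naR := cj_naP hK
  nbR := cj_nbP hK
  naM := naP_mem hK
  nbM := nbP_mem hK
  sqa := nP_sq hK 0
  sqb := sys_sqb hK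
  hbraid := sys_hbraid hK
  fpfA := sys_fpf hK hm 0
  fpfB := sys_fpf hK hm 1
  fpf1 := sys_fpf1 hK hm
  multA := multA hK hm
  multB r hr hd := multB hK hm r hr hd
  U_le := UT_le hK
  cU := UT_cU hK
  cUz := UT_cUz hK
  genU := UT_gen hK
  cR0 _ hx _ hy := Subtype.ext (commute_UL (L := rl 0) (M := rl 0) (by decide +kernel) (RT_le_SB hK 0 hx) (RT_le_SB hK 0 hy))
  r00 := rig00 hK hm
  r11 := rig11 hK hm
  rig := rig_pair hK hm
  cR02 := sys_cR02 hK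
  comm := comm_span hK
  disj := disj_span hK
  dH := sys_dH hK
  hHgen := sys_hHgen hK
  hHmeet := sys_hHmeet hK
  rankA := rank_rel' hK hm 0
  rankB := rank_rel' hK hm 1
  dist := sys_dist hK
  hBN := sys_hBN hK
  gen := sys_gen hK

include hK in
theorem twistedF4_multiplier (hm : 1 ≤ m) : Cfsg.HasCyclicSchurMultiplier ↥(twistedF4 K (2 ^ m)) 1 := by
  haveI := (RR K).Finite_of_field
  exact CfsgLib.Known.SL2Mult.hasCyclicSchurMultiplier_one_congr (Subgroup.subgroupOfEquivOfLe twF4_le)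
    (CfsgLib.Lie.OctCover.schur_trivial (sysF4 hK hm))

end CfsgLib.Lie.Chev.TwGroups.F4Mult
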