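import Cfsg.Agent.Lib.Lie.Twisted.F4Mult.Bruhat
import Cfsg.Agent.Lib.Classical.PSLTwoSimple
import Cfsg.Agent.Lib.Known.SL2Multiplier
import Cfsg.Agent.Lib.Known.SuzukiMultiplier

/-!
# Multipliers of the two subgroups of rank one
-/

set_option autoImplicit false

namespace CfsgLib.Lie.Chev.TwGroups.F4Mult

open Cfsg.Lie
open scoped MatrixGroups

variable {K : Type*} [Field K] [Fintype K] {m : ℕ} (hK : Fintype.card K = 2 ^ (2 * m + 1))

/-- the first subgroup of rank one maps to `SL₂` -/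
noncomputable def phiA : ↥(Mk hK 0) →* SL(2, K) where
  toFun x := ⟨(repA hK x).val, rep_det hK 0 x⟩
  map_one' := Subtype.ext (by
    show (repA hK 1).val = 1
    rw [map_one, Units.val_one])
  map_mul' x y := Subtype.ext (by
    show (repA hK (x * y)).val = (repA hK x).val * (repA hK y).val
    rw [map_mul, Units.val_mul])

theorem phiA_bijective (hm : 1 ≤ m) : Function.Bijective (phiA hK) := by
  refine ⟨fun x y h => repA_injective hK hm (Units.ext (congrArg Subtype.val h)), ?_⟩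
  rw [← MonoidHom.range_eq_top]
  refine CfsgLib.Classical.closure_transvection_eq_top _ fun i j hij c => ?_
  obtain ⟨t, rfl⟩ : ∃ t, frF4 hK t = c := Finite.surjective_of_injective (frF4 hK).injective c
  have cases2 : (i = 0 ∧ j = 1) ∨ (i = 1 ∧ j = 0) := by revert hij; fin_cases i <;> fin_cases j <;> simp
  rcases cases2 with ⟨rfl, rfl⟩ | ⟨rfl, rfl⟩
  · refine ⟨⟨_, RT8_le_Mk hK 0 (eP_mem hK 8 t 0)⟩, Subtype.ext ((repA_upper hK t 0).trans ?_)⟩
    ext a b; fin_cases a <;> fin_cases b <;> simp [Matrix.SpecialLinearGroup.transvection, Matrix.transvection]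
  · refine ⟨⟨_, RT_le_Mk hK 0 (eP_mem hK 0 t 0)⟩, Subtype.ext ((repA_lower hK t 0).trans ?_)⟩
    ext a b; fin_cases a <;> fin_cases b <;> simp [Matrix.SpecialLinearGroup.transvection, Matrix.transvection]

theorem multA (hm : 1 ≤ m) : Cfsg.HasCyclicSchurMultiplier ↥(Mk hK 0) 1 := by
  have h8 := card_ge hK hm
  have h9 : Fintype.card K ≠ 9 := fun h => by
    rw [hK, pow_succ'] at h; omega
  exact CfsgLib.Known.SL2Mult.hasCyclicSchurMultiplier_one_congr (MulEquiv.ofBijective _ (phiA_bijective hK hm)).symm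
    (CfsgLib.Known.SL2Mult.hasCyclicSchurMultiplier_SL_two (F := K) (by omega) h9)

theorem card_RT7 : Nat.card ↥(RT hK (dk 1)) = Fintype.card K ^ 2 := by
  have hb : Function.Bijective fun p : K × K => (⟨eP hK 7 p.1 p.2, eP_mem hK 7 p.1 p.2⟩ : ↥(RT hK (dk 1))) := by
    refine ⟨fun p q h => ?_, fun x => ?_⟩
    · obtain ⟨e1, e2⟩ := el_seven_inj hK (congrArg (fun z => ((z.1 : ↥(GP hK)) : ↥(chevF4.group K))) h)
      exact Prod.ext e1 e2
    · obtain ⟨t, u, e⟩ := x.2
      exact ⟨(t, u), Subtype.ext e.symm⟩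
  rw [← Nat.card_eq_of_bijective _ hb, Nat.card_prod, Nat.card_eq_fintype_card, sq]

theorem tor_injective (k : Fin 2) : Function.Injective (tor hK k) := by
  intro c d h
  have h2 := hP_injective hK (show hP hK (tc k c) = hP hK (tc k d) from h)
  unfold tc at h2
  split_ifs at h2
  · exact (Prod.ext_iff.1 h2).2
  · exact (Prod.ext_iff.1 h2).1

theorem posTab : ∀ k : Fin 2, ((rl (dk k)).all fun r => Nat.ble (half chevF4) r) = true ∧
    ((rl (dk k + 8)).all fun r => Nat.blt r (half chevF4)) = true := by decide +kernel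

theorem UP_of_RT (k : Fin 2) {x : ↥(GP hK)} (hx : x ∈ RT hK (dk k)) : (x : ↥(chevF4.group K)) ∈ (RR K).UP :=
  UL_le_UP ((posTab k).1) (RT_le_SB hK _ hx)

theorem UN_of_RT (k : Fin 2) {x : ↥(GP hK)} (hx : x ∈ RT hK (dk k + 8)) : (x : ↥(chevF4.group K)) ∈ (RR K).UN :=
  UL_le_UN ((posTab k).2) (RT_le_SB hK _ hx)

theorem card_Mk (hm : 1 ≤ m) (k : Fin 2) : Nat.card ↥(Mk hK k) =
    Nat.card ↥(RT hK (dk k)) * Nat.card Kˣ * (Nat.card ↥(RT hK (dk k)) + 1) := by
  haveI := (RR K).Finite_of_field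
  obtain ⟨cell, c0, c1⟩ : ∃ cell : Option ↥(RT hK (dk k)) → ↥(GP hK),
      cell none = 1 ∧ ∀ u : ↥(RT hK (dk k)), cell (some u) = nP hK k * u :=
    ⟨fun o => o.elim 1 fun u => nP hK k * u, rfl, fun _ => rfl⟩
  have hcell : ∀ o, cell o ∈ Mk hK k := by
    rintro (_ | u)
    · rw [c0]; exact one_mem _
    · rw [c1]; exact mul_mem (nP_mem hK k) (RT_le_Mk hK k u.2)
  let f : (↥(RT hK (dk k)) × Kˣ) × Option ↥(RT hK (dk k)) → ↥(Mk hK k) := fun p =>
    ⟨p.1.1 * tor hK k p.1.2 * cell p.2, mul_mem (mul_mem (RT_le_Mk hK k p.1.1.2) (tor_mem_Mk hK k _)) (hcell _)⟩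
  suffices hf : Function.Bijective f by
    rw [← Nat.card_eq_of_bijective f hf, Nat.card_prod, Nat.card_prod, Finite.card_option]
  have hB : ∀ (u : ↥(RT hK (dk k))) (d : Kˣ), (((u : ↥(GP hK)) * tor hK k d : ↥(GP hK)) : ↥(chevF4.group K)) ∈ (RR K).BS :=
    fun u d => mul_mem ((RR K).UP_le_BS (UP_of_RT hK k u.2)) ((RR K).HS_le_BS (tor_mem_HB hK k d))
  -- `nP` does not lie in the Borel subgroup
  have hne : ∀ (u u' : ↥(RT hK (dk k))) (d : Kˣ), (u : ↥(GP hK)) * tor hK k d * u' ≠ nP hK k := by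
    intro u u' d e
    refine rep_nP_not_Lo hK k ?_
    rw [show (⟨nP hK k, nP_mem hK k⟩ : ↥(Mk hK k)) = ⟨u, RT_le_Mk hK k u.2⟩ * ⟨_, tor_mem_Mk hK k d⟩ *
      ⟨u', RT_le_Mk hK k u'.2⟩ from Subtype.ext e.symm, map_mul, map_mul, Units.val_mul, Units.val_mul]
    refine IsLo.mul (IsLo.mul (rep_LU hK k _ u.2).1 ?_) (rep_LU hK k _ u'.2).1
    intro i j hij
    have h2 := rep_torus hK k (tc k d) (tor_mem_Mk hK k d)
    exact (congrFun (congrFun h2 i) j).trans (Matrix.diagonal_apply_ne _ hij.ne)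
  have split : ∀ (u v : ↥(RT hK (dk k))) (c d : Kˣ), (u : ↥(GP hK)) * tor hK k c = v * tor hK k d → (u, c) = (v, d) := by
    intro u v c d e
    obtain ⟨e1, e2⟩ := (RR K).UP_HS_unique (UP_of_RT hK k u.2) (UP_of_RT hK k v.2) (tor_mem_HB hK k c)
      (tor_mem_HB hK k d) (congrArg Subtype.val e)
    exact Prod.ext (Subtype.ext (Subtype.ext e1)) (tor_injective hK k (Subtype.ext e2))
  refine ⟨?_, ?_⟩
  · rintro ⟨⟨u, c⟩, o⟩ ⟨⟨v, d⟩, o'⟩ e
    have e' : (u : ↥(GP hK)) * tor hK k c * cell o = v * tor hK k d * cell o' := congrArg Subtype.val e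
    rcases o with _ | a <;> rcases o' with _ | b <;> simp only [c0, c1, mul_one] at e'
    · rw [split u v c d e']
    · refine absurd ?_ (hne ⟨(tor hK k d)⁻¹ * ((v : ↥(GP hK))⁻¹ * u) * tor hK k d, ?_⟩ b⁻¹ (d⁻¹ * c))
      · calc _ = (tor hK k d)⁻¹ * (v : ↥(GP hK))⁻¹ * (u * tor hK k c) * (b : ↥(GP hK))⁻¹ := by
              push_cast; simp only [map_mul, map_inv]; group
          _ = _ := by rw [e']; group
      · exact (cj_HB_RT hK (inv_mem (tor_mem_HB hK k d)) (dk k)).le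
          ⟨_, mul_mem (inv_mem v.2) u.2, by simp⟩
    · refine absurd ?_ (hne ⟨(tor hK k c)⁻¹ * ((u : ↥(GP hK))⁻¹ * v) * tor hK k c, ?_⟩ a⁻¹ (c⁻¹ * d))
      · calc _ = (tor hK k c)⁻¹ * (u : ↥(GP hK))⁻¹ * (v * tor hK k d) * (a : ↥(GP hK))⁻¹ := by
              push_cast; simp only [map_mul, map_inv]; group
          _ = _ := by rw [← e']; group
      · exact (cj_HB_RT hK (inv_mem (tor_mem_HB hK k c)) (dk k)).le
          ⟨_, mul_mem (inv_mem u.2) v.2, by simp⟩
    · have h1 : nP hK k * ((b : ↥(GP hK)) * (a : ↥(GP hK))⁻¹) * (nP hK k)⁻¹ =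
          ((v : ↥(GP hK)) * tor hK k d)⁻¹ * (u * tor hK k c) := by
        calc _ = ((v : ↥(GP hK)) * tor hK k d)⁻¹ * (v * tor hK k d * (nP hK k * b)) * (a : ↥(GP hK))⁻¹ * (nP hK k)⁻¹ := by
              group
          _ = _ := by rw [← e']; group
      have hN : nP hK k * ((b : ↥(GP hK)) * (a : ↥(GP hK))⁻¹) * (nP hK k)⁻¹ ∈ RT hK (dk k + 8) := by
        rw [← cj_nP]; exact ⟨_, mul_mem b.2 (inv_mem a.2), rfl⟩
      have h2 : nP hK k * ((b : ↥(GP hK)) * (a : ↥(GP hK))⁻¹) * (nP hK k)⁻¹ = 1 := by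
        refine Subtype.ext ((RR K).BS_inf_UN ?_ (UN_of_RT hK k hN))
        rw [h1]
        exact mul_mem (inv_mem (hB v d)) (hB u c)
      rw [h2, eq_comm, inv_mul_eq_one] at h1
      rw [mul_inv_eq_one, mul_eq_left, mul_inv_eq_one] at h2
      rw [← split v u d c h1, show b = a from Subtype.ext h2]
  · rintro ⟨g, hg⟩
    rcases Mk_cells hK hm k hg with ⟨u, hu, d, rfl⟩ | ⟨u, hu, d, u', hu', rfl⟩
    · refine ⟨((⟨u, hu⟩, d), none), Subtype.ext ?_⟩
      show u * tor hK k d * cell none = _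
      rw [c0, mul_one]
    · refine ⟨((⟨u, hu⟩, d), some ⟨u', hu'⟩), Subtype.ext ?_⟩
      show u * tor hK k d * cell (some _) = _
      rw [c1]; group

theorem index_RT7 (hm : 1 ≤ m) :
    ((RT hK (dk 1)).subgroupOf (Mk hK 1)).index = (Fintype.card K - 1) * (Fintype.card K ^ 2 + 1) := by
  have h1 := ((RT hK (dk 1)).subgroupOf (Mk hK 1)).card_mul_index
  rw [Nat.card_congr (Subgroup.subgroupOfEquivOfLe (RT_le_Mk hK 1)).toEquiv, card_Mk hK hm, card_RT7,
    Nat.card_units, Nat.card_eq_fintype_card, mul_assoc] at h1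
  exact Nat.eq_of_mul_eq_mul_left (pow_pos Fintype.card_pos 2) h1

theorem multB (hm : 1 ≤ m) (r : ℕ) (hr : r.Prime) (hd : r ∣ ((RT hK (dk 1)).subgroupOf (Mk hK 1)).index) :
    ∃ C : Subgroup ↥(Mk hK 1), IsCyclic C ∧ ¬ r ∣ C.index := by
  haveI := (RR K).Finite_of_field
  haveI : Fact r.Prime := ⟨hr⟩
  rw [index_RT7 hK hm] at hd
  have h8 := card_ge hK hm
  have hev : 2 ∣ Fintype.card K := hK ▸ dvd_pow_self 2 (by omega)
  have hodd : ¬ 2 ∣ (Fintype.card K - 1) * (Fintype.card K ^ 2 + 1) := fun h => by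
    rcases Nat.prime_two.dvd_mul.1 h with h | h
    · omega
    · have := dvd_pow hev two_ne_zero; omega
  have hr2 : r ≠ 2 := fun e => hodd (e ▸ hd)
  rcases hr.dvd_mul.1 hd with h1 | h2
  · -- the torus
    let T : Kˣ →* ↥(Mk hK 1) :=
      { toFun := fun d => ⟨tor hK 1 d, tor_mem_Mk hK 1 d⟩
        map_one' := Subtype.ext (map_one _)
        map_mul' := fun c d => Subtype.ext (map_mul _ c d) }
    have hT : Function.Injective T := fun c d h => tor_injective hK 1 (congrArg Subtype.val h)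
    refine ⟨T.range, isCyclic_of_surjective _ T.rangeRestrict_surjective, fun hdvd => ?_⟩
    have e := T.range.card_mul_index
    rw [← Nat.card_congr (MonoidHom.ofInjective hT).toEquiv, card_Mk hK hm, card_RT7, Nat.card_units,
      Nat.card_eq_fintype_card, show Fintype.card K ^ 2 * (Fintype.card K - 1) * (Fintype.card K ^ 2 + 1) =
      (Fintype.card K - 1) * (Fintype.card K ^ 2 * (Fintype.card K ^ 2 + 1)) by ring] at e
    rw [Nat.eq_of_mul_eq_mul_left (by omega) e] at hdvd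
    have hq1 : (Fintype.card K : ZMod r) = 1 := by
      have := (ZMod.natCast_eq_zero_iff _ _).2 h1
      rw [Nat.cast_sub (by omega), Nat.cast_one, sub_eq_zero] at this
      exact this
    have h0 := (ZMod.natCast_eq_zero_iff _ _).2 hdvd
    push_cast at h0
    rw [hq1] at h0
    have : ((2 : ℕ) : ZMod r) = 0 := by push_cast; linear_combination h0
    exact hr2 ((Nat.prime_dvd_prime_iff_eq hr Nat.prime_two).1 ((ZMod.natCast_eq_zero_iff _ _).1 this))
  · -- a Sylow subgroup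
    obtain ⟨R⟩ : Nonempty (Sylow r ↥(Mk hK 1)) := inferInstance
    refine ⟨R, ?_, R.not_dvd_index⟩
    have hrq : ¬ r ∣ Fintype.card K := fun h =>
      hr.not_dvd_one ((Nat.dvd_add_right (dvd_pow h two_ne_zero)).1 h2)
    have h1 : (Fintype.card K : ZMod r) ^ 2 = -1 := by
      have := (ZMod.natCast_eq_zero_iff _ _).2 h2
      push_cast at this
      exact eq_neg_of_add_eq_zero_left this
    have hr4 : 4 < r := by
      have h3 : ¬ 3 ∣ Fintype.card K ^ 2 + 1 := by
        rw [hK, ← pow_mul, Nat.dvd_iff_mod_eq_zero, show (2 * m + 1) * 2 = 2 * (2 * m + 1) by ring, pow_mul,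
          Nat.add_mod, Nat.pow_mod]
        norm_num
      have h4 : r ≠ 4 := fun h => by rw [h] at hr; norm_num at hr
      have h6 : r ≠ 3 := fun h => h3 (h ▸ h2)
      have := hr.two_le
      omega
    have : Fact (2 < r) := ⟨by omega⟩
    have hd : orderOf (Fintype.card K : ZMod r) = 4 := by
      have h' : orderOf (Fintype.card K : ZMod r) = 2 ^ (1 + 1) := orderOf_eq_prime_pow
        (fun h => by
          rw [pow_one, h1] at h
          exact absurd ((ZMod.neg_one_ne_one (n := r)) h) id)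
        (by rw [show (2 : ℕ) ^ (1 + 1) = 2 * 2 by norm_num, pow_mul, h1, neg_one_sq])
      simpa using h'
    obtain ⟨φ, hφ⟩ := CfsgLib.Classical.Homocyclic.exists_hom_GL (F := K) 4 hrq
    let ι : R →* GL (Fin 4) K := (repB hK).comp (R : Subgroup ↥(Mk hK 1)).subtype
    have hι : Function.Injective ι := fun a b h => Subtype.ext (repB_injective hK hm h)
    obtain ⟨Q, hQ⟩ :=
      (IsPGroup.of_surjective R.2 ι.rangeRestrict ι.rangeRestrict_surjective : IsPGroup r ι.range).exists_le_sylow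
    obtain ⟨e⟩ := CfsgLib.Classical.Homocyclic.sylow_homocyclic φ hφ
      (CfsgLib.Classical.Homocyclic.val_card_GL 4 hr4 hrq) Q
    have : Unique (Fin (4 / orderOf (Fintype.card K : ZMod r))) := by rw [hd]; exact inferInstanceAs (Unique (Fin 1))
    have hcy : IsCyclic Q := isCyclic_of_surjective _ ((MulEquiv.funUnique _ _).symm.trans e.symm).surjective
    have hcy' : IsCyclic ι.range := isCyclic_of_injective _ (Subgroup.inclusion_injective hQ)
    exact isCyclic_of_surjective _ (MonoidHom.ofInjective hι).symm.surjective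

end CfsgLib.Lie.Chev.TwGroups.F4Mult
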