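import Cfsg.Agent.Lib.Lie.Twisted.F4Mult.RankRep

/-!
# Structure of the two subgroups of rank one
-/

set_option autoImplicit false

namespace CfsgLib.Lie.Chev.TwGroups.F4Mult

open Cfsg.Lie
open CfsgLib.Lie.G2Cover (cj mem_cj)
open scoped commutatorElement

/-- the coordinate of the torus of a rank one subgroup -/
def sel {A : Type*} (k : Fin 2) (p : A × A) : A := if k = 1 then p.2 else p.1

/-- the other coordinate -/
def oth {A : Type*} (k : Fin 2) (p : A × A) : A := if k = 1 then p.1 else p.2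

/-- the exponent of the determinant on the level -/
def detW (k : Fin 2) : (ℤ√2) × (ℤ√2) := ((lvW k).map rootWt).sum

theorem selTab : ∀ k : Fin 2, sel k (detW k) = 0 ∧ unitB (oth k (detW k)) = true ∧
    unitB (sel k (wt (dk k))) = true ∧ unitB (sel k (rootWt ((lvW k).getD 0 0))) = true ∧ 0 < (lvW k).length := by
  decide +kernel

variable {K : Type*} [Field K] [Fintype K] {m : ℕ} (hK : Fintype.card K = 2 ^ (2 * m + 1))

omit [Fintype K] in
theorem chr_add (v w : (ℤ√2) × (ℤ√2)) (h : Kˣ × Kˣ) : chr m (v + w) h = chr m v h * chr m w h := by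
  simp only [chr, Prod.fst_add, Prod.snd_add, pw_add]; ac_rfl

theorem prod_ev_sq (h : Kˣ × Kˣ) : ∀ L : List ℕ,
    ((L.map fun r => ev m r h).prod) ^ (2 : ℕ) = chr m (L.map rootWt).sum h
  | [] => by simp [chr, pw]
  | r :: L => by
    rw [List.map_cons, List.prod_cons, mul_pow, prod_ev_sq h L, List.map_cons, List.sum_cons, chr_add, ev_sq]

/-- the torus of a rank one subgroup -/
def tc (k : Fin 2) (d : Kˣ) : Kˣ × Kˣ := if k = 1 then (1, d) else (d, 1)

omit [Field K] [Fintype K] in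
theorem sel_oth {A : Type*} [One A] (k : Fin 2) (p : A × A) (h : oth k p = 1) :
    p = if k = 1 then (1, sel k p) else (sel k p, 1) := by
  unfold oth sel at *
  split_ifs at h ⊢ <;> exact Prod.ext (by simp [h]) (by simp [h])

omit [Fintype K] in
theorem tc_mul (k : Fin 2) (c d : Kˣ) : tc k (c * d) = tc k c * tc k d := by
  unfold tc; split_ifs <;> simp

omit [Fintype K] in
theorem chr_tc (k : Fin 2) (w : (ℤ√2) × (ℤ√2)) (d : Kˣ) : chr m w (tc k d) = pw m (sel k w) d := by
  unfold tc sel chr; split_ifs <;> simp [pw_one_arg]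

/-- the torus elements of a rank one subgroup -/
noncomputable def tor (k : Fin 2) : Kˣ →* ↥(GP hK) where
  toFun d := hP hK (tc k d)
  map_one' := by rw [show tc k (1 : Kˣ) = 1 by unfold tc; split_ifs <;> rfl, map_one]
  map_mul' c d := by rw [tc_mul, map_mul]

theorem tor_mem_HB (k : Fin 2) (d : Kˣ) : tor hK k d ∈ HB hK := hP_mem hK _

/-- the torus meets a rank one subgroup in one factor -/
theorem torus_Mk (k : Fin 2) {x : ↥(GP hK)} (hx : x ∈ HB hK) (hM : x ∈ Mk hK k) : ∃ d, x = tor hK k d := by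
  obtain ⟨h, rfl⟩ := exists_hP hK hx
  obtain ⟨s0, s1, -, -, -⟩ := selTab k
  have hdet := rep_det hK k ⟨_, hM⟩
  rw [rep_torus hK k h hM, Matrix.det_diagonal] at hdet
  have hprod : ((lvW k).map fun r => ev m r h).prod = 1 := by
    refine Units.ext ?_
    rw [Units.val_one, ← hdet, ← Units.coe_prod]
    refine congrArg Units.val ?_
    rw [← List.prod_ofFn]
    refine congrArg List.prod (List.ext_getElem (by simp) fun i h1 h2 => ?_)
    simp only [List.length_map] at h1
    simp [List.getElem?_eq_getElem h1]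
  have h2 := prod_ev_sq (m := m) h (lvW k)
  rw [hprod, one_pow] at h2
  have h3 : pw m (oth k (detW k)) (oth k h) = 1 := by
    have e : chr m (detW k) h = pw m (oth k (detW k)) (oth k h) := by
      unfold oth sel chr at *
      split_ifs at s0 ⊢ <;> simp [s0, pw]
    rw [← e]; exact h2.symm
  exact ⟨sel k h, congrArg (hP hK) (sel_oth k h (pw_eq_one hK s1 h3))⟩

include hK in
theorem chr_sel_injective (k : Fin 2) {c d : Kˣ}
    (h : chr m (wt (dk k)) (tc k c) = chr m (wt (dk k)) (tc k d)) : c = d := by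
  rw [chr_tc, chr_tc] at h
  refine (mul_inv_eq_one).1 (pw_eq_one hK (selTab k).2.2.1 ?_)
  have e : pw m (sel k (wt (dk k))) d⁻¹ = (pw m (sel k (wt (dk k))) d)⁻¹ :=
    eq_inv_of_mul_eq_one_left (by rw [← pw_mul_arg, inv_mul_cancel, pw_one_arg])
  rw [pw_mul_arg, e, h, mul_inv_cancel]

/-- the monomial element inverts the torus of its subgroup -/
theorem nP_tor (k : Fin 2) (hd : ∀ d, tor hK k d ∈ Mk hK k) (d : Kˣ) :
    nP hK k * tor hK k d * (nP hK k)⁻¹ = tor hK k d⁻¹ := by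
  obtain ⟨e, he⟩ := torus_Mk hK k (nP_conj_HB hK k (tor_mem_HB hK k d))
    (mul_mem (mul_mem (nP_mem hK k) (hd d)) (inv_mem (nP_mem hK k)))
  rw [he]
  congr 1
  refine chr_sel_injective (m := m) hK k ?_
  have h1 : tor hK k e * eP hK (dk k + 8) 1 0 * (tor hK k e)⁻¹ =
      eP hK (dk k + 8) ((chr m (wt (dk k)) (tc k d) : Kˣ) : K) 0 := by
    rw [← he]
    calc nP hK k * tor hK k d * (nP hK k)⁻¹ * eP hK (dk k + 8) 1 0 * (nP hK k * tor hK k d * (nP hK k)⁻¹)⁻¹ =
        nP hK k * (tor hK k d * ((nP hK k)⁻¹ * eP hK (dk k + 8) 1 0 * nP hK k) * (tor hK k d)⁻¹) * (nP hK k)⁻¹ := by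
          group
      _ = _ := by
          rw [← nP_eP hK k 1 0, show (nP hK k)⁻¹ * (nP hK k * eP hK (dk k) 1 0 * (nP hK k)⁻¹) * nP hK k =
            eP hK (dk k) 1 0 by group]
          show nP hK k * (hP hK (tc k d) * eP hK (dk k) 1 0 * (hP hK (tc k d))⁻¹) * (nP hK k)⁻¹ = _
          rw [hP_eP, mul_one, mul_zero, nP_eP]
  change hP hK (tc k e) * eP hK (dk k + 8) 1 0 * (hP hK (tc k e))⁻¹ = _ at h1
  rw [hP_eP, mul_one, mul_zero] at h1
  have h2 : chr m (wt (dk k + 8)) (tc k e) = chr m (wt (dk k)) (tc k d) := by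
    have h3 : eP hK (dk k) ((chr m (wt (dk k + 8)) (tc k e) : Kˣ) : K) 0 =
        eP hK (dk k) ((chr m (wt (dk k)) (tc k d) : Kˣ) : K) 0 := by
      rw [← nP_eP, ← nP_eP] at h1
      simpa using h1
    exact Units.ext (eP_base_inj hK k h3)
  have hi : ∀ c : Kˣ, chr m (wt (dk k)) (tc k c⁻¹) = (chr m (wt (dk k)) (tc k c))⁻¹ := fun c =>
    eq_inv_of_mul_eq_one_left (by
      rw [← chr_mul_arg, ← tc_mul, inv_mul_cancel, show tc k (1 : Kˣ) = 1 by unfold tc; split_ifs <;> rfl]
      simp [chr, pw])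
  rw [hi, ← h2, (dkTab k).2.2.2, chr_smul hK]
  rw [show (-1 : ℤ√2) = ((-1 : ℤ) : ℤ√2) by norm_num, pw_int, zpow_neg_one, inv_inv]

end CfsgLib.Lie.Chev.TwGroups.F4Mult
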