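import Cfsg.Agent.Lib.Lie.Twisted.F4Mult.Ident
import Cfsg.Agent.Lib.Lie.Twisted.F4Mult.Level

/-!
# The two rank one subgroups and their representations on a level
-/

set_option autoImplicit false

namespace CfsgLib.Lie.Chev.TwGroups.F4Mult

open Cfsg.Lie
open CfsgLib.Lie.G2Cover (cj mem_cj)
open scoped commutatorElement

/-- the level of a rank one subgroup -/
def lvW (k : Fin 2) : List ℕ := if k = 1 then [33, 34, 35, 37] else [27, 34]

/-- the roots of a rank one subgroup -/
def lvL (k : Fin 2) : List ℕ := rl (dk k) ++ rl (dk k + 8)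

/-- all roots of a list lower strictly -/
def chkLow (W L : List ℕ) : Bool :=
  L.all fun r => (List.range W.length).all fun i => (List.range W.length).all fun j =>
    (entry W r i j).isEmpty || Nat.blt j i

theorem lvTab : ∀ k : Fin 2, chkLevel (lvW k) (lvL k) = true ∧ chkTri (lvW k) (lvL k) = true ∧
    chkLow (lvW k) (rl (dk k)) = true := by decide +kernel

variable {K : Type*} [Field K] [Fintype K] {m : ℕ} (hK : Fintype.card K = 2 ^ (2 * m + 1))

/-- a subgroup of rank one -/
noncomputable def Mk (k : Fin 2) : Subgroup ↥(GP hK) := RT hK (dk k) ⊔ RT hK (dk k + 8)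

theorem Mk_le (k : Fin 2) : Mk hK k ≤ SB hK (lvL k) :=
  sup_le (fun _ hx => UL_mono (fun _ h => List.mem_append_left _ h) (RT_le_SB hK _ hx))
    fun _ hx => UL_mono (fun _ h => List.mem_append_right _ h) (RT_le_SB hK _ hx)

theorem RT_le_Mk (k : Fin 2) : RT hK (dk k) ≤ Mk hK k := le_sup_left

theorem RT8_le_Mk (k : Fin 2) : RT hK (dk k + 8) ≤ Mk hK k := le_sup_right

theorem nP_mem (k : Fin 2) : nP hK k ∈ Mk hK k := by
  fin_cases k
  · exact naP_mem hK
  · exact nbP_mem hK

theorem cj_Mk (k : Fin 2) {x : ↥(GP hK)} (hx : x ∈ HB hK) : ∀ g ∈ Mk hK k, x * g * x⁻¹ ∈ Mk hK k := by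
  intro g hg
  have : cj x (Mk hK k) = Mk hK k := by
    rw [Mk, CfsgLib.Lie.OctCover.cj_sup, cj_HB_RT hK hx, cj_HB_RT hK hx]
  rw [← this]
  exact ⟨g, hg, rfl⟩

/-- the representation of a rank one subgroup -/
noncomputable def rep (k : Fin 2) : ↥(Mk hK k) →* GL (Fin (lvW k).length) K :=
  (levelRep (K := K) (lvTab k).1).comp
    { toFun := fun x => ⟨((x : ↥(GP hK)) : ↥(chevF4.group K)), Mk_le hK k x.2⟩
      map_one' := rfl
      map_mul' := fun _ _ => rfl }

theorem rep_det (k : Fin 2) (x : ↥(Mk hK k)) :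
    (rep hK k x : Matrix (Fin (lvW k).length) (Fin (lvW k).length) K).det = 1 :=
  levelRep_det (lvTab k).1 (lvTab k).2.1 _

theorem rep_torus (k : Fin 2) (h : Kˣ × Kˣ) (hh : hP hK h ∈ Mk hK k) :
    (rep hK k ⟨_, hh⟩ : Matrix (Fin (lvW k).length) (Fin (lvW k).length) K) =
      Matrix.diagonal fun i : Fin (lvW k).length => (ev m ((lvW k).getD (i : ℕ) 0) h : K) :=
  levelRep_torus (lvTab k).1 _ h rfl

/-- lower unitriangular -/
def IsLU {n : ℕ} (A : Matrix (Fin n) (Fin n) K) : Prop := (∀ i j, i < j → A i j = 0) ∧ ∀ i, A i i = 1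

omit [Fintype K] in
theorem IsLU.mul {n : ℕ} {A B : Matrix (Fin n) (Fin n) K} (hA : IsLU A) (hB : IsLU B) : IsLU (A * B) := by
  refine ⟨fun i j hij => ?_, fun i => ?_⟩
  · rw [Matrix.mul_apply]
    refine Finset.sum_eq_zero fun l _ => ?_
    rcases lt_or_ge i l with h | h
    · rw [hA.1 i l h, zero_mul]
    · rw [hB.1 l j (lt_of_le_of_lt h hij), mul_zero]
  · rw [Matrix.mul_apply, Finset.sum_eq_single i]
    · rw [hA.2, hB.2, one_mul]
    · intro l _ hl
      rcases lt_or_gt_of_ne hl with h | h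
      · rw [hB.1 l i h, mul_zero]
      · rw [hA.1 i l h, zero_mul]
    · simp

theorem rep_LU (k : Fin 2) (x : ↥(GP hK)) (hx : x ∈ RT hK (dk k)) :
    IsLU (rep hK k ⟨x, RT_le_Mk hK k hx⟩ : Matrix (Fin (lvW k).length) (Fin (lvW k).length) K) := by
  have hU : (x : ↥(chevF4.group K)) ∈ UL K (rl (dk k)) := RT_le_SB hK _ hx
  obtain ⟨P, hP⟩ : ∃ P : Submonoid ↥(chevF4.group K), ∀ g, g ∈ P ↔ ∃ hg : g ∈ UL K (lvL k),
      IsLU (levelRep (K := K) (lvTab k).1 ⟨g, hg⟩).val :=
    ⟨{ carrier := {g | ∃ hg : g ∈ UL K (lvL k),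
          IsLU (levelRep (K := K) (lvTab k).1 ⟨g, hg⟩).val}
       one_mem' := ⟨one_mem _, by
          show IsLU (levelRep (K := K) (lvTab k).1 1).val
          rw [map_one, Units.val_one]
          exact ⟨fun i j h => Matrix.one_apply_ne h.ne, fun i => Matrix.one_apply_eq i⟩⟩
       mul_mem' := fun {a b} ⟨ha, ea⟩ ⟨hb, eb⟩ => ⟨mul_mem ha hb, by
          show IsLU (levelRep (K := K) (lvTab k).1 (⟨a, ha⟩ * ⟨b, hb⟩)).val
          rw [map_mul, Units.val_mul]; exact ea.mul eb⟩ }, fun _ => Iff.rfl⟩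
  have key : ((x : ↥(GP hK)) : ↥(chevF4.group K)) ∈ P := by
    unfold UL Rel.US at hU
    refine closure_induction_symm (RR K).gens_symm (one_mem P) (fun a ha b hb => mul_mem ?_ hb) hU
    obtain ⟨r, hr, t, rfl⟩ := ha
    have hrL : (r : ℕ) ∈ lvL k := List.mem_append_left _ hr
    refine (hP _).2 ⟨X_mem hrL t, ?_⟩
    have hlow := (lvTab k).2.2
    simp only [chkLow, List.all_eq_true, Bool.or_eq_true, List.isEmpty_iff, List.mem_range, nat_blt_iff] at hlow
    have e : ∀ i j : Fin (lvW k).length, ¬ (j : ℕ) < i →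
        (levelRep (lvTab k).1 ⟨(RR K).xe (r : ℕ) t, X_mem hrL t⟩ : Matrix (Fin (lvW k).length) (Fin (lvW k).length) K) i j =
          if i = j then 1 else 0 := fun i j hij => by
      rw [show (⟨(RR K).xe (r : ℕ) t, X_mem hrL t⟩ : ↥(UL K (lvL k))) = ⟨xG certF4 K r t, X_mem hrL t⟩ from rfl,
        levelRep_X (lvTab k).1 hrL, ((hlow r hr) i i.2 j j.2).resolve_right hij]
      simp
    exact ⟨fun i j hij => by rw [e i j (not_lt.2 (le_of_lt hij)), if_neg hij.ne],
      fun i => by rw [e i i (lt_irrefl _), if_pos rfl]⟩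
  exact ((hP _).1 key).2

/-! ### the two cases -/

/-- a single entry of coefficient one -/
def e1 : List (ℕ × ℤ) := [(1, 1)]

/-- a single entry of coefficient minus one -/
def m1 : List (ℕ × ℤ) := [(1, -1)]

theorem ent33 : ∀ i j : Fin 2, entry [27, 34] 33 i j = ![![[], []], ![m1, []]] i j := by decide +kernel
theorem ent24 : ∀ i j : Fin 2, entry [27, 34] 24 i j = [] := by decide +kernel
theorem ent14 : ∀ i j : Fin 2, entry [27, 34] 14 i j = ![![[], m1], ![[], []]] i j := by decide +kernel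
theorem ent23 : ∀ i j : Fin 2, entry [27, 34] 23 i j = [] := by decide +kernel

theorem ent27 : ∀ i j : Fin 4, entry [33, 34, 35, 37] 27 i j =
    ![![[], [], [], []], ![e1, [], [], []], ![[], [], [], []], ![[], [], e1, []]] i j := by decide +kernel
theorem ent25 : ∀ i j : Fin 4, entry [33, 34, 35, 37] 25 i j =
    ![![[], [], [], []], ![[], [], [], []], ![[], e1, [], []], ![[], [], [], []]] i j := by decide +kernel
theorem ent28 : ∀ i j : Fin 4, entry [33, 34, 35, 37] 28 i j =
    ![![[], [], [], []], ![[], [], [], []], ![e1, [], [], []], ![[], m1, [], []]] i j := by decide +kernel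
theorem ent30 : ∀ i j : Fin 4, entry [33, 34, 35, 37] 30 i j =
    ![![[], [], [], []], ![[], [], [], []], ![[], [], [], []], ![e1, [], [], []]] i j := by decide +kernel
theorem ent20 : ∀ i j : Fin 4, entry [33, 34, 35, 37] 20 i j =
    ![![[], e1, [], []], ![[], [], [], []], ![[], [], [], e1], ![[], [], [], []]] i j := by decide +kernel
theorem ent22 : ∀ i j : Fin 4, entry [33, 34, 35, 37] 22 i j =
    ![![[], [], [], []], ![[], [], e1, []], ![[], [], [], []], ![[], [], [], []]] i j := by decide +kernel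
theorem ent19 : ∀ i j : Fin 4, entry [33, 34, 35, 37] 19 i j =
    ![![[], [], e1, []], ![[], [], [], m1], ![[], [], [], []], ![[], [], [], []]] i j := by decide +kernel
theorem ent17 : ∀ i j : Fin 4, entry [33, 34, 35, 37] 17 i j =
    ![![[], [], [], e1], ![[], [], [], []], ![[], [], [], []], ![[], [], [], []]] i j := by decide +kernel

/-- the representation of the first subgroup of rank one -/
noncomputable def repA : ↥(Mk hK 0) →* GL (Fin 2) K := rep hK 0

/-- the representation of the second subgroup of rank one -/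
noncomputable def repB : ↥(Mk hK 1) →* GL (Fin 4) K := rep hK 1

omit [Fintype K] in
theorem lrA {r : ℕ} (hr : r ∈ lvL 0) (t : K) (i j : Fin 2) :
    (levelRep (lvTab 0).1 ⟨xG certF4 K r t, X_mem hr t⟩).val i j =
      (if i = j then 1 else 0) + ((entry [27, 34] r i j).map fun km => ((km.2 : ℤ) : K) * t ^ km.1).sum :=
  levelRep_X (lvTab 0).1 hr t _ i j

omit [Fintype K] in
theorem lrB {r : ℕ} (hr : r ∈ lvL 1) (t : K) (i j : Fin 4) :
    (levelRep (lvTab 1).1 ⟨xG certF4 K r t, X_mem hr t⟩).val i j =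
      (if i = j then 1 else 0) + ((entry [33, 34, 35, 37] r i j).map fun km => ((km.2 : ℤ) : K) * t ^ km.1).sum :=
  levelRep_X (lvTab 1).1 hr t _ i j

/-- the matrix of an element of the first subgroup of rank one -/
theorem repA_pair {a b : ℕ} (ha : a ∈ lvL 0) (hb : b ∈ lvL 0) (x : ↥(Mk hK 0)) (t u : K)
    (e : ((x : ↥(GP hK)) : ↥(chevF4.group K)) = xG certF4 K a t * xG certF4 K b u) (i j : Fin 2) :
    (repA hK x).val i j = ∑ l : Fin 2,
      ((if i = l then 1 else 0) + ((entry [27, 34] a i l).map fun km => ((km.2 : ℤ) : K) * t ^ km.1).sum) *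
        ((if l = j then 1 else 0) + ((entry [27, 34] b l j).map fun km => ((km.2 : ℤ) : K) * u ^ km.1).sum) := by
  have e' : repA hK x = levelRep (lvTab 0).1 ⟨xG certF4 K a t, X_mem ha t⟩ *
      levelRep (lvTab 0).1 ⟨xG certF4 K b u, X_mem hb u⟩ := by
    rw [← map_mul]
    refine congrArg (levelRep (K := K) (lvTab 0).1) ?_
    exact Subtype.ext e
  rw [e', Units.val_mul]
  exact (Matrix.mul_apply).trans (Finset.sum_congr rfl fun l _ => congrArg₂ (· * ·) (lrA ha t i l) (lrA hb u l j))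

theorem repA_lower (t u : K) : (repA hK ⟨eP hK 0 t u, RT_le_Mk hK 0 (eP_mem hK 0 t u)⟩).val =
    !![1, 0; frF4 hK t, 1] := by
  haveI := charF4 hK
  ext i j
  rw [repA_pair hK (a := 33) (b := 24) (by decide) (by decide) _ (frF4 hK t) t rfl]
  simp only [ent33, ent24, Fin.sum_univ_two]
  fin_cases i <;> fin_cases j <;> simp [m1, CharTwo.neg_eq]

theorem repA_upper (t u : K) : (repA hK ⟨eP hK 8 t u, RT8_le_Mk hK 0 (eP_mem hK 8 t u)⟩).val =
    !![1, frF4 hK t; 0, 1] := by
  haveI := charF4 hK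
  ext i j
  rw [repA_pair hK (a := 14) (b := 23) (by decide) (by decide) _ (frF4 hK t) t rfl]
  simp only [ent14, ent23, Fin.sum_univ_two]
  fin_cases i <;> fin_cases j <;> simp [m1, CharTwo.neg_eq]

/-- the matrix of a root element of the second subgroup of rank one -/
def quadMat (a b c d : ℕ) (x y z w : K) : Matrix (Fin 4) (Fin 4) K :=
  let M : ℕ → K → Matrix (Fin 4) (Fin 4) K := fun r v => Matrix.of fun i j =>
    (if i = j then 1 else 0) + ((entry [33, 34, 35, 37] r i j).map fun km => ((km.2 : ℤ) : K) * v ^ km.1).sum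
  M a x * (M b y * (M c z * M d w))

theorem repB_quad {a b c d : ℕ} (ha : a ∈ lvL 1) (hb : b ∈ lvL 1) (hc : c ∈ lvL 1) (hd : d ∈ lvL 1)
    (g : ↥(Mk hK 1)) (x y z w : K)
    (e : ((g : ↥(GP hK)) : ↥(chevF4.group K)) =
      xG certF4 K a x * (xG certF4 K b y * (xG certF4 K c z * xG certF4 K d w))) :
    (repB hK g).val = quadMat a b c d x y z w := by
  have e' : repB hK g = levelRep (lvTab 1).1 ⟨xG certF4 K a x, X_mem ha x⟩ *
      (levelRep (lvTab 1).1 ⟨xG certF4 K b y, X_mem hb y⟩ * (levelRep (lvTab 1).1 ⟨xG certF4 K c z, X_mem hc z⟩ *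
        levelRep (lvTab 1).1 ⟨xG certF4 K d w, X_mem hd w⟩)) := by
    rw [← map_mul, ← map_mul, ← map_mul]
    refine congrArg (levelRep (K := K) (lvTab 1).1) ?_
    exact Subtype.ext e
  rw [e', Units.val_mul, Units.val_mul, Units.val_mul, quadMat]
  refine congrArg₂ (· * ·) ?_ (congrArg₂ (· * ·) ?_ (congrArg₂ (· * ·) ?_ ?_)) <;> ext i j
  exacts [lrB ha x i j, lrB hb y i j, lrB hc z i j, lrB hd w i j]

/-- the coordinates of an element of the positive class are entries of its matrix -/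
theorem repB_lower (t u : K) :
    (repB hK ⟨eP hK 7 t u, RT_le_Mk hK 1 (eP_mem hK 7 t u)⟩).val 1 0 = frF4 hK t ∧
    (repB hK ⟨eP hK 7 t u, RT_le_Mk hK 1 (eP_mem hK 7 t u)⟩).val 2 0 = frF4 hK t * t + u := by
  rw [repB_quad hK (a := 27) (b := 25) (c := 28) (d := 30) (by decide) (by decide) (by decide) (by decide) _
    (frF4 hK t) t (frF4 hK t * t + u) (frF4 hK u ^ (2 : ℕ)) rfl]
  simp only [quadMat, Matrix.mul_apply, Matrix.of_apply, Fin.sum_univ_four, ent27, ent25, ent28, ent30]
  constructor <;> simp [e1, m1]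

theorem repB_upper (t u : K) :
    (repB hK ⟨eP hK 15 t u, RT8_le_Mk hK 1 (eP_mem hK 15 t u)⟩).val 0 1 = frF4 hK t := by
  rw [repB_quad hK (a := 20) (b := 22) (c := 19) (d := 17) (by decide) (by decide) (by decide) (by decide) _
    (frF4 hK t) t (frF4 hK t * t + u) (frF4 hK u ^ (2 : ℕ)) rfl]
  simp only [quadMat, Matrix.mul_apply, Matrix.of_apply, Fin.sum_univ_four, ent20, ent22, ent19, ent17]
  simp [e1, m1]

include hK in
theorem el_seven_inj {t u t' u' : K} (h : el hK 7 t u = el hK 7 t' u') : t = t' ∧ u = u' := by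
  rw [el_seven_eq, el_seven_eq, cB_eq_xB2, cB_eq_xB2] at h
  exact xB2_inj hK h

theorem eP_base_inj (k : Fin 2) {t t' u u' : K} (h : eP hK (dk k) t u = eP hK (dk k) t' u') : t = t' := by
  fin_cases k
  · have h' := repA_lower hK t u
    have h'' := repA_lower hK t' u'
    simp only [show dk (⟨0, by decide⟩ : Fin 2) = 0 from rfl] at h
    simp only [h] at h'
    have e := congrFun (congrFun (h'.symm.trans h'') 1) 0
    exact (frF4 hK).injective (by simpa using e)
  · exact (el_seven_inj hK (congrArg Subtype.val h)).1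

end CfsgLib.Lie.Chev.TwGroups.F4Mult
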