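import Cfsg.Agent.Lib.Lie.Twisted.F4Mult.Mult

/-!
# Pairings of root subgroups invariant under the torus
-/

set_option autoImplicit false

namespace CfsgLib.Lie.Chev.TwGroups.F4Mult

open Cfsg.Lie
open CfsgLib.Lie.G2Cover (cj mem_cj Rigid)
open CfsgLib.Lie.OctCover (RigidMod)
open scoped commutatorElement

universe u

/-- biadditive invariant pairings on a field vanish -/
theorem pair_kill_scalar {F : Type*} [Field F] [Fintype F] (hF : 5 ≤ Fintype.card F) {A : Type*} [CommGroup A]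
    (g : F → F → A) (hl : ∀ s t w, g (s + t) w = g s w * g t w) (hr : ∀ s t w, g w (s + t) = g w s * g w t)
    (hc : ∀ c : Fˣ, ∀ a b, g (c * a) (c * b) = g a b) : ∀ a b, g a b = 1 := by
  intro u v
  have h0 : ∀ w, g 0 w = 1 := fun w => by
    have := hl 0 0 w; rwa [add_zero, eq_comm, mul_eq_left] at this
  have inv : ∀ (a : F) (w : F), a ≠ 0 → g a w = g 1 (w * a⁻¹) := fun a w ha => by
    have := hc (Units.mk0 a ha)⁻¹ a w
    rw [Units.val_inv_eq_inv_val, Units.val_mk0, inv_mul_cancel₀ ha] at this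
    rw [← this, mul_comm w]
  obtain ⟨w, hw⟩ : ∃ w : F, w * (w + 1) * (w * w + w + 1) ≠ 0 := by
    by_contra hcon
    simp only [not_exists, not_not] at hcon
    open Polynomial in
    have hP : (X * (X + 1) * (X * X + X + 1) : F[X]) = 0 := by
      refine eq_zero_of_natDegree_lt_card_of_eval_eq_zero _ Function.injective_id (fun w => ?_) ?_
      · simpa using hcon w
      · refine lt_of_le_of_lt ?_ (lt_of_lt_of_le (show 4 < 5 by norm_num) hF)
        compute_degree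
    open Polynomial in
    have := congrArg (fun p : F[X] => p.coeff 4) hP
    open Polynomial in
    simp [show (X * (X + 1) * (X * X + X + 1) : F[X]) = X ^ 4 + C 2 * X ^ 3 + C 2 * X ^ 2 + X by
      rw [C_ofNat]; ring, coeff_X, coeff_X_pow, coeff_C_mul] at this
  simp only [mul_ne_zero_iff] at hw
  obtain ⟨⟨w0, w1⟩, w2⟩ := hw
  have key : ∀ v, g 1 v = 1 := by
    intro v
    have s0 : (1 : F) + (w + -(1 + w)) = 0 := by ring
    have hn : -(1 + w) ≠ 0 := neg_ne_zero.2 (by rwa [add_comm])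
    have hS : (1 : F) + (w⁻¹ + (-(1 + w))⁻¹) ≠ 0 := by
      have hw1 : 1 + w ≠ 0 := by rwa [add_comm]
      rw [inv_neg, show (1 : F) + (w⁻¹ + -(1 + w)⁻¹) = (w * w + w + 1) * (w⁻¹ * (1 + w)⁻¹) by
        field_simp; ring]
      exact mul_ne_zero w2 (mul_ne_zero (inv_ne_zero w0) (inv_ne_zero hw1))
    obtain ⟨v', rfl⟩ : ∃ v', v = v' * ((1 : F) + (w⁻¹ + (-(1 + w))⁻¹)) :=
      ⟨v / _, (div_mul_cancel₀ v hS).symm⟩
    have e := h0 v'
    rw [← s0, hl, hl, inv w v' w0, inv _ v' hn, ← hr, ← hr] at e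
    rw [← e]
    congr 1
    ring
  by_cases hu : u = 0
  · rw [hu, h0]
  · rw [inv u v hu, key]

/-- a fixed-point-free torus element centralising `Y` makes pairings of `X` and `Y` vanish -/
theorem rigid_fixed {G : Type u} [Group G] {H X Y : Subgroup G} {h : G} (hh : h ∈ H)
    (hy : ∀ y ∈ Y, h * y * h⁻¹ = y) (hx : ∀ x ∈ X, ∃ x' ∈ X, ⁅h, x'⁆ = x) : Rigid H X Y := by
  intro A _ f f1 _ f3 x hxX y hyY
  obtain ⟨x', hx', e⟩ := hx x hxX
  have e2 : h * x' * h⁻¹ = x * x' := by rw [← e, commutatorElement_def]; group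
  have := f3 h hh x' hx' y hyY
  rw [e2, hy y hyY, f1 x hxX x' hx' y hyY, mul_eq_right] at this
  exact this

theorem indepTab : (∀ i j : ℕ, i < 8 → j < 8 → i < j → indepB (wt (j : ZMod 16)) (wt (i : ZMod 16)) = true) := by
  have h : ∀ i < 8, ∀ j < 8, i < j → indepB (wt ((i : ℕ) : ZMod 16)) (wt ((j : ℕ) : ZMod 16)) = true := by
    decide +kernel
  intro i j hi hj hij
  have := h i hi j hj hij
  simp only [indepB, unitB] at this ⊢
  rwa [show (wt (j : ZMod 16)).1 * (wt (i : ZMod 16)).2 - (wt (j : ZMod 16)).2 * (wt (i : ZMod 16)).1 =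
    -((wt (i : ZMod 16)).1 * (wt (j : ZMod 16)).2 - (wt (i : ZMod 16)).2 * (wt (j : ZMod 16)).1) by ring,
    Zsqrtd.norm_neg]

variable {K : Type u} [Field K] [Fintype K] {m : ℕ} (hK : Fintype.card K = 2 ^ (2 * m + 1))

theorem el_inj (k : ZMod 16) {t t' u u' : K} (h : el hK k t u = el hK k t' u') :
    t = t' ∧ (evB k = false → u = u') := by
  rw [el_eq_conj hK k t u, el_eq_conj hK k t' u', EmbeddingLike.apply_eq_iff_eq] at h
  rcases base_cases k with e | e <;> rw [e] at h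
  · refine ⟨eP_base_inj hK 0 (t := t) (t' := t') (u := u) (u' := u') (Subtype.ext h), fun hk => ?_⟩
    unfold base at e
    rw [hk] at e
    exact absurd e (by decide)
  · obtain ⟨h1, h2⟩ := el_seven_inj hK h
    exact ⟨h1, fun _ => h2⟩

theorem eP_of_t0 (k : ZMod 16) {u : K} (h : evB k = false → u = 0) : eP hK k 0 u = 1 := by
  cases hk : evB k
  · rw [h hk, eP_zero]
  · rw [← eP_zero hK k]
    refine Subtype.ext ?_
    show el hK k 0 u = el hK k 0 0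
    simp [el, hk]

/-- a torus element with a nontrivial character acts without fixed points -/
theorem fpf_of_ne (k : ZMod 16) {h : Kˣ × Kˣ} (hc : chr m (wt k) h ≠ 1) :
    ∀ s ∈ RT hK k, ⁅hP hK h, s⁆ = 1 → s = 1 := by
  rintro _ ⟨t, u, rfl⟩ e
  rw [commutatorElement_def, mul_inv_eq_one, hP_eP] at e
  obtain ⟨e1, e2⟩ := el_inj hK k (congrArg Subtype.val e)
  have ht : t = 0 := by
    by_contra h0
    exact hc (Units.ext (by rwa [mul_eq_right₀ h0] at e1))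
  subst ht
  refine eP_of_t0 hK k fun hk => ?_
  by_contra h0
  exact norm_ne_one hK hc (by have := e2 hk; rwa [mul_eq_right₀ h0] at this)

theorem fix_of_one (k : ZMod 16) {h : Kˣ × Kˣ} (hc : chr m (wt k) h = 1) :
    ∀ s ∈ RT hK k, hP hK h * s * (hP hK h)⁻¹ = s := by
  rintro _ ⟨t, u, rfl⟩
  rw [hP_eP, hc, Units.val_one, map_one, one_mul, one_mul, one_mul]

theorem rig_pair (hm : 1 ≤ m) (i j : ℕ) (hij : i < j) (hj : j < 8) :
    Rigid (HB hK) (RT hK (i : ZMod 16)) (RT hK (j : ZMod 16)) := by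
  haveI := (RR K).Finite_of_field
  obtain ⟨c, hc⟩ := exists_ne_one hK hm
  obtain ⟨h, h1, h2⟩ := exists_chr_eq hK (indepTab i j (by omega) hj hij) (1 : Kˣ) c
  obtain ⟨-, -, hsur⟩ := CfsgLib.Lie.OctCover.comm_surj (cj_HB_RT hK (hP_mem hK h) _)
    (fpf_of_ne hK (i : ZMod 16) (h2 ▸ hc))
  intro A _ f f1 f2 f3
  exact rigid_fixed (X := RT hK (i : ZMod 16)) (Y := RT hK (j : ZMod 16)) (hP_mem hK h) (fix_of_one hK _ h1)
    hsur f f1 f2 f3

include hK in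
theorem scalar_zero : ∀ c : Kˣ, ∃ h : Kˣ × Kˣ, chr m (wt 0) h = c := fun c => by
  obtain ⟨h, h1, -⟩ := exists_chr_eq hK (v := wt 0) (w := wt 1) (by decide +kernel) c 1
  exact ⟨h, h1⟩

include hK in
theorem scalar_one : ∀ c : Kˣ, ∃ h : Kˣ × Kˣ, chr m (wt 1) h = c := fun c => by
  obtain ⟨h, h1, -⟩ := exists_chr_eq hK (v := wt 1) (w := wt 2) (by decide +kernel) c 1
  exact ⟨h, h1⟩

theorem eP_even_add (t s : K) : eP hK 0 t 0 * eP hK 0 s 0 = eP hK 0 (t + s) 0 := by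
  rw [eP_mul]
  exact Subtype.ext (by rfl)

theorem exists_eP0 {x : ↥(GP hK)} (hx : x ∈ RT hK 0) : ∃ t, x = eP hK 0 t 0 := by
  obtain ⟨t, u, rfl⟩ := hx
  exact ⟨t, Subtype.ext (by rfl)⟩

theorem rig00 (hm : 1 ≤ m) : Rigid (HB hK) (RT hK 0) (RT hK 0) := by
  intro A _ f f1 f2 f3 x hx y hy
  obtain ⟨t, rfl⟩ := exists_eP0 hK hx
  obtain ⟨s, rfl⟩ := exists_eP0 hK hy
  exact pair_kill_scalar (F := K) (le_trans (by norm_num) (card_ge hK hm))
    (fun t s => f (eP hK 0 t 0) (eP hK 0 s 0))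
    (fun s t w => by rw [← f1 _ (eP_mem hK 0 s 0) _ (eP_mem hK 0 t 0) _ (eP_mem hK 0 w 0), eP_even_add])
    (fun s t w => by rw [← f2 _ (eP_mem hK 0 w 0) _ (eP_mem hK 0 s 0) _ (eP_mem hK 0 t 0), eP_even_add])
    (fun c a b => by
      obtain ⟨h, rfl⟩ := scalar_zero hK c
      have := f3 _ (hP_mem hK h) _ (eP_mem hK 0 a 0) _ (eP_mem hK 0 b 0)
      rwa [hP_eP, hP_eP, mul_zero] at this) t s

/-- the centre of an odd root subgroup -/
noncomputable def UT : Subgroup ↥(GP hK) where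
  carrier := {x | ∃ u, x = eP hK 1 0 u}
  one_mem' := ⟨0, (eP_zero hK 1).symm⟩
  mul_mem' := by
    rintro _ _ ⟨u, rfl⟩ ⟨v, rfl⟩
    exact ⟨u + v, by rw [eP_mul, add_zero, zero_mul, add_zero]⟩
  inv_mem' := by
    rintro _ ⟨u, rfl⟩
    exact ⟨u, by rw [eP_inv, zero_mul, add_zero]⟩

theorem UT_le : UT hK ≤ RT hK 1 := by rintro _ ⟨u, rfl⟩; exact eP_mem hK 1 0 u

theorem rig11 (hm : 1 ≤ m) : RigidMod (HB hK) (RT hK 1) (UT hK) := by
  intro A _ f f1 f2 f3 f4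
  have hmem : ∀ u : K, eP hK 1 0 u ∈ UT hK := fun u => ⟨u, rfl⟩
  have sp : ∀ t u : K, eP hK 1 t u = eP hK 1 t 0 * eP hK 1 0 u := fun t u => by
    rw [eP_mul, add_zero, zero_add, zero_mul, add_zero]
  have f1' : ∀ t u s v, f (eP hK 1 t u) (eP hK 1 s v) = f (eP hK 1 t 0) (eP hK 1 s 0) := by
    intro t u s v
    rw [sp t u, sp s v, f1 _ (eP_mem hK 1 t 0) _ (eP_mem hK 1 0 u) _ (mul_mem (eP_mem hK 1 s 0) (eP_mem hK 1 0 v)),
      f2 _ (eP_mem hK 1 t 0) _ (eP_mem hK 1 s 0) _ (eP_mem hK 1 0 v),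
      f2 _ (eP_mem hK 1 0 u) _ (eP_mem hK 1 s 0) _ (eP_mem hK 1 0 v),
      (f3 _ (eP_mem hK 1 t 0) _ (hmem v)).1, (f3 _ (eP_mem hK 1 s 0) _ (hmem u)).2,
      (f3 _ (eP_mem hK 1 0 u) _ (hmem v)).1, mul_one, mul_one, mul_one]
  have hk := pair_kill_scalar (F := K) (le_trans (by norm_num) (card_ge hK hm))
    (fun t s => f (eP hK 1 t 0) (eP hK 1 s 0))
    (fun s t w => by
      rw [← f1 _ (eP_mem hK 1 s 0) _ (eP_mem hK 1 t 0) _ (eP_mem hK 1 w 0), eP_mul]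
      exact (f1' _ _ _ _).symm)
    (fun s t w => by
      rw [← f2 _ (eP_mem hK 1 w 0) _ (eP_mem hK 1 s 0) _ (eP_mem hK 1 t 0), eP_mul]
      exact (f1' _ _ _ _).symm)
    (fun c a b => by
      obtain ⟨h, rfl⟩ := scalar_one hK c
      have := f4 _ (hP_mem hK h) _ (eP_mem hK 1 a 0) _ (eP_mem hK 1 b 0)
      rwa [hP_eP, hP_eP, mul_zero] at this)
  rintro _ ⟨t, u, rfl⟩ _ ⟨s, v, rfl⟩
  rw [f1']
  exact hk t s

theorem UT_cU : ∀ x ∈ RT hK 1, ∀ y ∈ RT hK 1, ⁅x, y⁆ ∈ UT hK := by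
  haveI := charF4 hK
  rintro _ ⟨t, u, rfl⟩ _ ⟨s, v, rfl⟩
  rw [commutatorElement_def, eP_inv, eP_inv, eP_mul, eP_mul, eP_mul]
  rw [show t + s + t + s = (0 : K) by rw [add_right_comm t s t, CharTwo.add_self_eq_zero, zero_add, CharTwo.add_self_eq_zero]]
  exact ⟨_, rfl⟩

theorem UT_cUz : ∀ x ∈ RT hK 1, ∀ y ∈ UT hK, x * y = y * x := by
  rintro _ ⟨t, u, rfl⟩ _ ⟨v, rfl⟩
  rw [eP_mul, eP_mul]
  congr 1
  · rw [add_comm]
  · rw [map_zero, zero_mul, mul_zero]; ring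

theorem cj_UT {x : ↥(GP hK)} (hx : x ∈ HB hK) : cj x (UT hK) = UT hK := by
  obtain ⟨h, rfl⟩ := exists_hP hK hx
  refine le_antisymm ?_ fun y hy => ?_
  · rintro _ ⟨_, ⟨u, rfl⟩, rfl⟩
    exact ⟨_, (hP_eP hK 1 h 0 u).trans (by rw [mul_zero])⟩
  · obtain ⟨u, rfl⟩ := hy
    rw [mem_cj, ← map_inv]
    refine ⟨_, Eq.trans ?_ ((hP_eP hK 1 h⁻¹ 0 u).trans (by rw [mul_zero]))⟩
    rw [map_inv, inv_inv]

open F4Inv in
theorem genTab : MonCollect.chkSame chevF4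
    (w0 (some 0) ++ (w6 (some 1) none ++ ((w0 (some 0)).reverse ++ (w6 (some 1) none).reverse)))
    [(36, [0, 1, 0, 1]), (42, [1, 0, 1])] = true := by decide +kernel

theorem UT_gen : UT hK ≤ Subgroup.closure {z | ∃ x ∈ RT hK 0, ∃ y ∈ RT hK 3, z = ⁅x, y⁆} := by
  haveI := charF4 hK
  rintro _ ⟨u, rfl⟩
  obtain ⟨s, rfl⟩ := Finite.surjective_of_injective (frF4 hK).injective u
  refine Subgroup.subset_closure ⟨_, eP_mem hK 0 1 0, _, eP_mem hK 3 s 0, Subtype.ext ?_⟩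
  have h := MonCollect.word_eq_of_chk (chevRel certF4 K) (F4Inv.atoms (frF4 hK) [1, s]) genTab
  simp only [MonCollect.word_append, MonCollect.word_reverse] at h
  rw [show F4Inv.w0 = F4Inv.wA 33 24 from rfl, show F4Inv.w6 = F4Inv.wB 29 41 44 47 from rfl,
    F4Inv.word_wA (frF4 hK) _ _ _ _ (by simp [F4Inv.inR]),
    F4Inv.word_wB (frF4 hK) _ _ _ _ _ _ _ (by simp [F4Inv.inR]) (by simp [F4Inv.inR])] at h
  show el hK 1 0 (frF4 hK s) = ⁅el hK 0 1 0, el hK 3 s 0⁆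
  rw [commutatorElement_def]
  rw [← mul_assoc, ← mul_assoc] at h
  refine Eq.trans ?_ h.symm
  have z : ∀ r, F4Inv.X r (0 : K) = 1 := (RR K).xe_zero
  have e3 : (frF4 hK (frF4 hK s)) ^ (2 : ℕ) = s := F4Inv.frF4_fix hK s
  show F4Inv.cB (frF4 hK) 34 26 36 42 0 (frF4 hK s) = _
  simp only [F4Inv.cB, map_zero, z, one_mul, zero_mul, zero_add, e3, MonCollect.word, List.map_cons, List.map_nil,
    List.prod_cons, List.prod_nil, mul_one, MonCollect.val, F4Inv.atoms, List.flatMap_cons, List.flatMap_nil,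
    List.cons_append, List.nil_append, MonCollect.mon, pow_zero, pow_one, map_one]
  rfl

end CfsgLib.Lie.Chev.TwGroups.F4Mult
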