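import Cfsg.Agent.Lib.Lie.Twisted.F4Mult.Wt

/-!
# The sixteen root subgroups of the large Ree groups
-/

set_option autoImplicit false

namespace CfsgLib.Lie.Chev.TwGroups.F4Mult

open Cfsg.Lie
open CfsgLib.Lie.Chev.TwGroups.F4Inv (cA cB act nw nw_X chkAct nw_cA nw_cB nA nB P1 memF4)

/-- the roots of the sixteen directions -/
def rl (k : ZMod 16) : List ℕ :=
  [[33, 24], [34, 26, 36, 42], [38, 43], [29, 41, 44, 47], [39, 45], [35, 31, 40, 46], [37, 32], [27, 25, 28, 30],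
    [14, 23], [13, 21, 11, 5], [9, 4], [18, 6, 3, 0], [8, 2], [12, 16, 7, 1], [10, 15], [20, 22, 19, 17]].getD k.val []

/-- the `i`-th root of a direction -/
def rt (k : ZMod 16) (i : ℕ) : ℕ := (rl k).getD i 0

/-- the directions of type A1 × A1 -/
def evB (k : ZMod 16) : Bool := Nat.beq (k.val % 2) 0

/-- the basic direction of the same type -/
def base (k : ZMod 16) : ZMod 16 := bif evB k then 0 else 7

/-- the word of a letter -/
def ltr (b : Bool) : List ℕ := bif b then [1, 2, 1, 2] else [0, 3]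

/-- the letters carrying the basic direction to a given one -/
def letters (k : ZMod 16) : List Bool :=
  [[], [false], [false, true], [false, true, false], [true, false, true], [true, false], [true], [],
    [false], [false, true], [false, true, false], [false, true, false, true], [true, false, true, false],
    [true, false, true], [true, false], [true]].getD k.val []

/-- the word carrying the basic direction to a given one -/
def word (k : ZMod 16) : List ℕ := (letters k).flatMap ltr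

/-- the word carrying a direction to the basic one -/
def back (k : ZMod 16) : List ℕ := (letters k).reverse.flatMap ltr

/-- the exponent of the character of a direction -/
def wt (k : ZMod 16) : (ℤ√2) × (ℤ√2) :=
  [(⟨2, 0⟩, ⟨-1, 0⟩), (⟨1, 0⟩, ⟨1, -1⟩), (⟨0, 1⟩, ⟨1, -1⟩), (⟨-1, 1⟩, ⟨0, 0⟩), (⟨0, 0⟩, ⟨-1, 1⟩),
    (⟨1, -1⟩, ⟨-1, 1⟩), (⟨0, -1⟩, ⟨1, 0⟩), (⟨-1, 0⟩, ⟨2, -1⟩),
    (⟨-2, 0⟩, ⟨1, 0⟩), (⟨-1, 0⟩, ⟨-1, 1⟩), (⟨0, -1⟩, ⟨-1, 1⟩), (⟨1, -1⟩, ⟨0, 0⟩), (⟨0, 0⟩, ⟨1, -1⟩),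
    (⟨-1, 1⟩, ⟨1, -1⟩), (⟨0, 1⟩, ⟨-1, 0⟩), (⟨1, 0⟩, ⟨-2, 1⟩)].getD k.val (0, 0)

theorem parityTab : ∀ k : ZMod 16, evB (8 - k) = evB k ∧ evB (6 - k) = evB k ∧ evB (base k) = evB k := by
  decide +kernel

theorem wordTab : ∀ k : ZMod 16,
    chkAct (word k) (rl (base k)) (rl k) = true ∧ chkAct (back k) (rl k) (rl (base k)) = true ∧
    chkAct [0, 3] (rl k) (rl (8 - k)) = true ∧ chkAct [1, 2, 1, 2] (rl k) (rl (6 - k)) = true ∧
    rl k = (bif evB k then [rt k 0, rt k 1] else [rt k 0, rt k 1, rt k 2, rt k 3]) ∧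
    (rl k).all (fun r => Nat.blt r chevF4.nroots) = true := by
  decide +kernel

theorem wtTab : ∀ k : ZMod 16,
    rootWt (rt k 1) = (2 * (wt k).1, 2 * (wt k).2) ∧ rootWt (rt k 0) = (s2 * (wt k).1, s2 * (wt k).2) ∧
    (evB k = false → rootWt (rt k 2) = ((2 + s2) * (wt k).1, (2 + s2) * (wt k).2) ∧
      rootWt (rt k 3) = ((s2 * (2 + s2)) * (wt k).1, (s2 * (2 + s2)) * (wt k).2)) := by
  decide +kernel

variable {K : Type*} [Field K] [Fintype K] {m : ℕ} (hK : Fintype.card K = 2 ^ (2 * m + 1))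

/-- the root element of a direction -/
noncomputable def el (k : ZMod 16) (t u : K) : ↥(chevF4.group K) :=
  bif evB k then cA (frF4 hK) (rt k 0) (rt k 1) t
  else cB (frF4 hK) (rt k 0) (rt k 1) (rt k 2) (rt k 3) t u

theorem nw_append (L M : List ℕ) : nw (K := K) (L ++ M) = nw L * nw M := by
  simp [F4Inv.nw]

theorem conj_el {L : List ℕ} {j k : ZMod 16} (hjk : evB j = evB k) (h : chkAct L (rl j) (rl k) = true) (t u : K) :
    MulAut.conj (nw L) (el hK j t u) = el hK k t u := by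
  haveI := charF4 hK
  rw [(wordTab j).2.2.2.2.1, (wordTab k).2.2.2.2.1, hjk] at h
  unfold el
  rw [hjk]
  cases he : evB k <;> simp only [he, cond_true, cond_false] at h ⊢
  · exact nw_cB (frF4 hK) h t u
  · exact nw_cA (frF4 hK) h t

theorem el_eq_conj (k : ZMod 16) (t u : K) : el hK k t u = MulAut.conj (nw (word k)) (el hK (base k) t u) :=
  (conj_el hK (parityTab k).2.2 (wordTab k).1 t u).symm

theorem conj_nA_el (k : ZMod 16) (t u : K) : MulAut.conj (nA (K := K)) (el hK k t u) = el hK (8 - k) t u :=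
  conj_el hK (parityTab k).1.symm (wordTab k).2.2.1 t u

theorem conj_nB_el (k : ZMod 16) (t u : K) : MulAut.conj (nB (K := K)) (el hK k t u) = el hK (6 - k) t u :=
  conj_el hK (parityTab k).2.1.symm (wordTab k).2.2.2.1 t u

theorem el_zero_eq (t u : K) : el hK 0 t u = cA (frF4 hK) 33 24 t := rfl

theorem el_seven_eq (t u : K) : el hK 7 t u = cB (frF4 hK) 27 25 28 30 t u := rfl

theorem cB_eq_xB2 (t u : K) : cB (frF4 hK) 27 25 28 30 t u = xB2 m 27 25 28 30 t u := by
  simp only [cB, xB2, frF4_apply]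

theorem base_cases (k : ZMod 16) : base k = 0 ∨ base k = 7 := by
  unfold base; cases evB k <;> simp

theorem el_zero (k : ZMod 16) : el hK k (0 : K) 0 = 1 := by
  have z : ∀ r, xG certF4 K r (0 : K) = 1 := (RR K).xe_zero
  unfold el
  cases evB k <;> simp [cA, cB, F4Inv.X, z]

theorem el_mul (k : ZMod 16) (t u t' u' : K) :
    el hK k t u * el hK k t' u' = el hK k (t + t') (u + u' + t' * frF4 hK t) := by
  rw [el_eq_conj hK k t u, el_eq_conj hK k t', el_eq_conj hK k (t + t'), ← map_mul]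
  congr 1
  rcases base_cases k with e | e <;> rw [e]
  · obtain ⟨⟨p1, -, -, -⟩, -, -⟩ := commF4
    simp only [el_zero_eq, cA, map_add, F4Inv.X]
    rw [(xG_commute certF4 p1 _ _).symm.mul_mul_mul_comm, xG_pow_mul, xG_pow_mul]
  · simp only [el_seven_eq, cB_eq_xB2, frF4_apply]
    exact xB2_mul hK t u t' u'

theorem el_inv (k : ZMod 16) (t u : K) : (el hK k t u)⁻¹ = el hK k t (u + t * frF4 hK t) := by
  haveI := charF4 hK
  refine inv_eq_of_mul_eq_one_right ?_
  rw [el_mul, CharTwo.add_self_eq_zero, ← add_assoc, CharTwo.add_self_eq_zero, zero_add,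
    CharTwo.add_self_eq_zero, el_zero]

include hK in
theorem nw_letters_mem : ∀ l : List Bool, nw (K := K) (l.flatMap ltr) ∈ P1 m
  | [] => by simp [F4Inv.nw]
  | b :: l => by
    rw [List.flatMap_cons, nw_append]
    refine mul_mem ?_ (nw_letters_mem l)
    cases b
    · exact (memF4 hK).mnA
    · exact (memF4 hK).mnB

theorem el_mem (k : ZMod 16) (t u : K) : el hK k t u ∈ P1 m := by
  rw [el_eq_conj, MulAut.conj_apply]
  refine mul_mem (mul_mem (nw_letters_mem hK _) ?_) (inv_mem (nw_letters_mem hK _))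
  rcases base_cases k with e | e <;> rw [e]
  · exact (memF4 hK).m0 t
  · exact (memF4 hK).m1 t u

theorem rt_mem (k : ZMod 16) : rt k 0 ∈ rl k ∧ rt k 1 ∈ rl k ∧ (evB k = false → rt k 2 ∈ rl k ∧ rt k 3 ∈ rl k) := by
  revert k; decide +kernel

theorem el_mem_UL (k : ZMod 16) (t u : K) : el hK k t u ∈ UL K (rl k) := by
  obtain ⟨h0, h1, h2⟩ := rt_mem k
  unfold el
  cases he : evB k
  · exact mul_mem (X_mem h0 _) (mul_mem (X_mem h1 _) (mul_mem (X_mem (h2 he).1 _) (X_mem (h2 he).2 _)))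
  · exact mul_mem (X_mem h0 _) (X_mem h1 _)

omit [Fintype K] in
/-- a word of simple reflections maps spans to spans -/
theorem conj_nw_UL [CharP K 2] {L rs rs' : List ℕ} (h : chkAct L rs rs' = true) {x : ↥(chevF4.group K)} (hx : x ∈ UL K rs) :
    MulAut.conj (nw L) x ∈ UL K rs' := by
  simp only [chkAct, Bool.and_eq_true, List.all_eq_true, nat_blt_iff, decide_eq_true_iff] at h
  obtain ⟨⟨hL, hr⟩, he⟩ := h
  have : UL K rs ≤ (UL K rs').comap (MulAut.conj (nw L)).toMonoidHom := UL_le fun r hr' t => by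
    show MulAut.conj (nw L) (F4Inv.X r t) ∈ UL K rs'
    rw [(nw_X L hL (hr r hr') t).1]
    exact X_mem (he ▸ List.mem_map.2 ⟨r, hr', rfl⟩) t
  exact this hx

include hK in
theorem fixed_base_zero {x : ↥(chevF4.group K)} (hx : x ∈ P1 m) (hU : x ∈ UL K (rl 0)) : ∃ t, x = el hK 0 t 0 := by
  obtain ⟨⟨a1, a2, -, -⟩, -, -⟩ := twAtF4
  obtain ⟨⟨p1, -, -, -⟩, -, -⟩ := commF4
  have hU' : x ∈ (RR K).US (posSub chevF4 auxF4 orbF4 0) := by
    refine UL_le (fun r hr t => xG_class_mem certF4 orbF4_ho 0 ?_ t) hU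
    rw [show ((0 : Fin 2) : ℕ) = 0 from rfl, classF4.1]
    simp only [show rl 0 = [33, 24] from rfl, List.mem_cons, List.not_mem_nil, or_false] at hr ⊢
    exact hr.symm
  obtain ⟨t, ht, e⟩ := pair_fixed certF4 orbF4_ho 0 (wordF4 0) classF4.1 (by decide) p1
    (σF4_short hK a1) (σF4_long hK a2) hU' ((twF4 hK).hfix x hx)
  refine ⟨(t ^ 2 ^ m) ^ (2 : ℕ), e.trans ?_⟩
  rw [el_zero_eq, cA, frF4_apply, ht]

include hK in
theorem fixed_base_seven {x : ↥(chevF4.group K)} (hx : x ∈ P1 m) (hU : x ∈ UL K (rl 7)) :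
    ∃ t u, x = el hK 7 t u := by
  have hU' : x ∈ (RR K).US (posSub chevF4 auxF4 orbF4 1) := by
    refine UL_le (fun r hr t => xG_class_mem certF4 orbF4_ho 1 ?_ t) hU
    rw [show ((1 : Fin 2) : ℕ) = 1 from rfl, classF4.2]
    simp only [show rl 7 = [27, 25, 28, 30] from rfl, List.mem_cons, List.not_mem_nil, or_false] at hr ⊢
    tauto
  obtain ⟨t, u, e⟩ := classB2_fixed hK hU' ((twF4 hK).hfix x hx)
  exact ⟨t, u, e.trans (cB_eq_xB2 hK t u).symm⟩

include hK in
/-- the fixed elements of a span of one direction -/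
theorem fixed_UL (k : ZMod 16) {x : ↥(chevF4.group K)} (hx : x ∈ P1 m) (hU : x ∈ UL K (rl k)) :
    ∃ t u, x = el hK k t u := by
  haveI := charF4 hK
  have hg : nw (K := K) (back k) ∈ P1 m := nw_letters_mem hK _
  have hy : MulAut.conj (nw (back k)) x ∈ P1 m := mul_mem (mul_mem hg hx) (inv_mem hg)
  have hyU := conj_nw_UL (wordTab k).2.1 hU
  obtain ⟨t, u, e⟩ : ∃ t u, MulAut.conj (nw (back k)) x = el hK (base k) t u := by
    rcases base_cases k with e | e <;> rw [e] at hyU ⊢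
    · obtain ⟨t, h⟩ := fixed_base_zero hK hy hyU
      exact ⟨t, 0, h⟩
    · exact fixed_base_seven hK hy hyU
  exact ⟨t, u, (MulAut.conj (nw (back k))).injective
    (e.trans (conj_el hK (parityTab k).2.2.symm (wordTab k).2.1 t u).symm)⟩

end CfsgLib.Lie.Chev.TwGroups.F4Mult
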