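import Cfsg.Agent.Lib.Lie.Twisted.F4Mult.Tools
import Cfsg.Agent.Lib.Lie.Twisted.F4Perfect
import Mathlib.NumberTheory.Zsqrtd.Basic

/-!
# Characters of the fixed torus, with exponents in `ℤ[√2]`
-/

set_option autoImplicit false

namespace CfsgLib.Lie.Chev.TwGroups.F4Mult

open Cfsg.Lie
open Zsqrtd (norm)

variable {K : Type*} [Field K] {m : ℕ}

/-- `√2` -/
abbrev s2 : ℤ√2 := ⟨0, 1⟩

/-- powers with exponents in `ℤ[√2]`, where `√2` is the `2 ^ (m + 1)`-st power -/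
def pw (m : ℕ) (d : ℤ√2) (x : Kˣ) : Kˣ := x ^ d.re * (x ^ 2 ^ (m + 1)) ^ d.im

theorem pw_mul_arg (d : ℤ√2) (x y : Kˣ) : pw m d (x * y) = pw m d x * pw m d y := by
  simp only [pw, mul_pow, mul_zpow]; ac_rfl

theorem pw_add (d e : ℤ√2) (x : Kˣ) : pw m (d + e) x = pw m d x * pw m e x := by
  simp only [pw, Zsqrtd.re_add, Zsqrtd.im_add, zpow_add]; ac_rfl

theorem pw_one_arg (d : ℤ√2) : pw m d (1 : Kˣ) = 1 := by simp [pw]

theorem pw_int (n : ℤ) (x : Kˣ) : pw m (n : ℤ√2) x = x ^ n := by simp [pw]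

theorem pw_s2 (x : Kˣ) : pw m s2 x = x ^ 2 ^ (m + 1) := by simp [pw]

theorem pw_two (x : Kˣ) : pw m (2 : ℤ√2) x = x ^ (2 : ℕ) := by
  rw [show (2 : ℤ√2) = ((2 : ℤ) : ℤ√2) by norm_num, pw_int]; norm_cast

variable [Fintype K] (hK : Fintype.card K = 2 ^ (2 * m + 1))

include hK in
theorem units_card_pow (x : Kˣ) : x ^ 2 ^ (2 * m + 1) = x := by
  refine Units.ext ?_
  rw [Units.val_pow_eq_pow_val, ← hK]
  exact FiniteField.pow_card _

include hK in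
theorem pow_twice (x : Kˣ) : (x ^ 2 ^ (m + 1)) ^ 2 ^ (m + 1) = x ^ (2 : ℕ) := by
  rw [← pow_mul, show 2 ^ (m + 1) * 2 ^ (m + 1) = 2 ^ (2 * m + 1) * 2 by ring, pow_mul, units_card_pow hK]

include hK in
theorem pw_mul (d e : ℤ√2) (x : Kˣ) : pw m (d * e) x = pw m d (pw m e x) := by
  have hz : ∀ (y : Kˣ) (k : ℤ), (y ^ k) ^ 2 ^ (m + 1) = (y ^ 2 ^ (m + 1)) ^ k := fun y k => by
    rw [← zpow_natCast, ← zpow_natCast y, ← zpow_mul, ← zpow_mul, mul_comm]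
  simp only [pw, mul_pow, hz, pow_twice hK, Zsqrtd.re_mul, Zsqrtd.im_mul, mul_zpow, ← zpow_natCast x 2, ← zpow_mul]
  rw [show d.re * e.re + 2 * d.im * e.im = e.re * d.re + (((2 : ℕ) : ℤ) * e.im) * d.im by push_cast; ring,
    show d.re * e.im + d.im * e.re = e.im * d.re + e.re * d.im by ring, zpow_add, zpow_add]
  ac_rfl

include hK in
theorem sq_units_inj {x y : Kˣ} (h : x ^ (2 : ℕ) = y ^ (2 : ℕ)) : x = y := by
  haveI := charF4 hK
  refine Units.ext ?_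
  have h' := congrArg Units.val h
  simp only [Units.val_pow_eq_pow_val] at h'
  exact CharTwo.sq_injective h'

include hK in
theorem eq_one_of_pow_two : ∀ (k : ℕ) (x : Kˣ), x ^ 2 ^ k = 1 → x = 1
  | 0, x, h => by simpa using h
  | k + 1, x, h => by
    rw [pow_succ 2 k, pow_mul] at h
    exact eq_one_of_pow_two k x (sq_units_inj hK (h.trans (one_pow 2).symm))

/-- the norm of an exponent is a power of two up to sign -/
def unitB (d : ℤ√2) : Bool := [1, 2, 4, 8, 16].contains (norm d).natAbs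

include hK in
theorem pw_eq_one {d : ℤ√2} (hd : unitB d = true) {x : Kˣ} (h : pw m d x = 1) : x = 1 := by
  have h1 : pw m (star d * d) x = 1 := by rw [pw_mul hK, h, pw_one_arg]
  rw [mul_comm, ← Zsqrtd.norm_eq_mul_conj, pw_int] at h1
  obtain ⟨k, hk⟩ : ∃ k, (norm d).natAbs = 2 ^ k := by
    simp only [unitB, List.contains_iff_mem, List.mem_cons, List.not_mem_nil, or_false] at hd
    rcases hd with h | h | h | h | h
    exacts [⟨0, h⟩, ⟨1, h⟩, ⟨2, h⟩, ⟨3, h⟩, ⟨4, h⟩]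
  refine eq_one_of_pow_two hK k x ?_
  rcases Int.natAbs_eq (norm d) with e | e <;> rw [e, hk] at h1
  · rwa [zpow_natCast] at h1
  · rwa [zpow_neg, zpow_natCast, inv_eq_one] at h1

/-! ### characters -/

/-- a character of the torus -/
def chr (m : ℕ) (w : (ℤ√2) × (ℤ√2)) (h : Kˣ × Kˣ) : Kˣ := pw m w.1 h.1 * pw m w.2 h.2

theorem chr_mul_arg (w : (ℤ√2) × (ℤ√2)) (g h : Kˣ × Kˣ) : chr m w (g * h) = chr m w g * chr m w h := by
  simp only [chr, Prod.fst_mul, Prod.snd_mul, pw_mul_arg]; ac_rfl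

include hK in
theorem chr_smul (d : ℤ√2) (w : (ℤ√2) × (ℤ√2)) (h : Kˣ × Kˣ) :
    chr m (d * w.1, d * w.2) h = pw m d (chr m w h) := by
  simp only [chr, pw_mul_arg, pw_mul hK]

/-- a pair of characters as a homomorphism -/
def chrPair (m : ℕ) (v w : (ℤ√2) × (ℤ√2)) : Kˣ × Kˣ →* Kˣ × Kˣ where
  toFun h := (chr m v h, chr m w h)
  map_one' := by simp [chr, pw]
  map_mul' g h := by simp only [chr_mul_arg]; rfl

/-- the determinant of two characters is invertible -/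
def indepB (v w : (ℤ√2) × (ℤ√2)) : Bool := unitB (v.1 * w.2 - v.2 * w.1)

include hK in
theorem chrPair_bijective {v w : (ℤ√2) × (ℤ√2)} (hd : indepB v w = true) :
    Function.Bijective (chrPair (K := K) m v w) := by
  refine Finite.injective_iff_bijective.1 ((injective_iff_map_eq_one _).2 fun h hh => ?_)
  obtain ⟨hv, hw⟩ : chr m v h = 1 ∧ chr m w h = 1 := ⟨congrArg Prod.fst hh, congrArg Prod.snd hh⟩
  simp only [chr] at hv hw
  have h1 : pw m (v.1 * w.2 - v.2 * w.1) h.1 = 1 := by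
    rw [show v.1 * w.2 - v.2 * w.1 = w.2 * v.1 + -1 * (v.2 * w.1) by ring, pw_add, pw_mul hK, pw_mul hK (-1),
      pw_mul hK v.2, eq_inv_of_mul_eq_one_left hv, eq_inv_of_mul_eq_one_left hw]
    have hi : ∀ (d : ℤ√2) (y : Kˣ), pw m d y⁻¹ = (pw m d y)⁻¹ := fun d y =>
      eq_inv_of_mul_eq_one_left (by rw [← pw_mul_arg, inv_mul_cancel, pw_one_arg])
    rw [hi, hi, hi, show (-1 : ℤ√2) = ((-1 : ℤ) : ℤ√2) by norm_num, pw_int, zpow_neg_one, inv_inv,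
      ← pw_mul hK, ← pw_mul hK, mul_comm w.2 v.2, inv_mul_cancel]
  have e1 := pw_eq_one hK hd h1
  rw [e1, pw_one_arg, one_mul] at hv hw
  have h2 : pw m (v.1 * w.2 - v.2 * w.1) h.2 = 1 := by
    rw [show v.1 * w.2 - v.2 * w.1 = v.1 * w.2 + -w.1 * v.2 by ring, pw_add, pw_mul hK, hw, pw_mul hK, hv,
      pw_one_arg, pw_one_arg, one_mul]
  exact Prod.ext e1 (pw_eq_one hK hd h2)

include hK in
theorem exists_chr_eq {v w : (ℤ√2) × (ℤ√2)} (hd : indepB v w = true) (a b : Kˣ) :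
    ∃ h, chr m v h = a ∧ chr m w h = b := by
  obtain ⟨h, e⟩ := (chrPair_bijective hK hd).2 (a, b)
  exact ⟨h, congrArg Prod.fst e, congrArg Prod.snd e⟩

/-! ### the torus on root elements -/

/-- the multiplier of a root -/
def ev (m r : ℕ) (h : Kˣ × Kˣ) : Kˣ :=
  (h.1 ^ 2 ^ m) ^ chevF4.cartan 0 r * ((h.2 ^ 2 ^ m) ^ chevF4.cartan 1 r *
    (h.2 ^ chevF4.cartan 2 r * h.1 ^ chevF4.cartan 3 r))

/-- twice the exponent of a root -/
def rootWt (r : ℕ) : (ℤ√2) × (ℤ√2) :=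
  (⟨2 * chevF4.cartan 3 r, chevF4.cartan 0 r⟩, ⟨2 * chevF4.cartan 2 r, chevF4.cartan 1 r⟩)

theorem ev_sq (r : ℕ) (h : Kˣ × Kˣ) : ev m r h ^ (2 : ℕ) = chr m (rootWt r) h := by
  have hz : ∀ (y : Kˣ) (k : ℤ), ((y ^ 2 ^ m) ^ k) ^ (2 : ℕ) = (y ^ 2 ^ (m + 1)) ^ k := fun y k => by
    rw [← zpow_natCast, ← zpow_mul, mul_comm, zpow_mul, zpow_natCast, ← pow_mul, ← pow_succ]
  have hw : ∀ (y : Kˣ) (k : ℤ), (y ^ k) ^ (2 : ℕ) = y ^ (2 * k) := fun y k => by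
    rw [← zpow_natCast, ← zpow_mul, mul_comm k]; norm_cast
  simp only [ev, chr, rootWt, pw, mul_pow, hz, hw]
  ac_rfl

omit [Fintype K] in
theorem torusG_conj_X (h : Kˣ × Kˣ) {r : ℕ} (hr : r < chevF4.nroots) (t : K) :
    psiF4 K m h * xG certF4 K r t * (psiF4 K m h)⁻¹ = xG certF4 K r ((ev m r h : K) * t) := by
  obtain ⟨⟨s0, s1, s2, s3⟩, -, -⟩ := simpleF4
  have l : ∀ n, n < 4 → n < chevF4.rank := fun n hn => lt_of_lt_of_eq hn lengthF4.symm
  rw [psiF4_apply, tupF4_val]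
  have hh : ∀ (i : Fin chevF4.rank) (c : Kˣ), (RR K).IsMon ((RR K).he (chevF4.simple i) (c : K)) 1
      fun r => (c : K) ^ chevF4.cartan i r := fun i c => (RR K).isMon_he_simple i c.ne_zero
  have H := (RR K).isMon_mul ((RR K).isMon_mul ((RR K).isMon_mul (hh ⟨0, l 0 (by norm_num)⟩ (h.1 ^ 2 ^ m))
    (hh ⟨1, l 1 (by norm_num)⟩ (h.2 ^ 2 ^ m))) (hh ⟨2, l 2 (by norm_num)⟩ h.2)) (hh ⟨3, l 3 (by norm_num)⟩ h.1)
  simp only [s0, s1, s2, s3, mul_one, Equiv.Perm.one_apply] at H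
  have := (H ⟨r, hr⟩).2.2.2 t
  refine this.trans (congrArg (xG certF4 K r) ?_)
  simp only [ev, Units.val_mul, Units.val_zpow_eq_zpow_val, mul_assoc]

end CfsgLib.Lie.Chev.TwGroups.F4Mult
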